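import Cfsg.Agent.Lib.FpfControl.Basic
import Cfsg.Agent.Lib.Cores.Basic
import Cfsg.Prelude.Def_EvenType

/-!
# A coprime automorphism fixing the centraliser of an involution (owner: helper81)

`Setup α τ`: `α` has order prime to `|G|` and fixes `C(τ)` pointwise, `τ` an involution.

* `Setup.mem_of_conj`: a conjugate of `τ` is fixed only if the conjugating element is
* `Setup.fusion`: the fixed subgroup controls fusion of its elements
* `Setup.twoSubgroup_le`: every invariant 2-subgroup is fixed pointwise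
* `Setup.inverted_mem`: an element inverted by `τ` with a fixed conjugate is fixed
-/

set_option autoImplicit false
set_option linter.style.haveILetI false
set_option linter.unusedSectionVars false

namespace Cfsg.Agent.CoprimeCentral

open Cfsg.Agent.FpfControl (Inv)

universe u

variable {G : Type u} [Group G]

/-- The hypotheses. -/
structure Setup (α : MulAut G) (τ : G) : Prop where
  cop : (orderOf α).Coprime (Nat.card G)
  inv : orderOf τ = 2
  cent : Subgroup.centralizer ({τ} : Set G) ≤ Cfsg.fixedSubgroup α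

theorem mem_fixed {α : MulAut G} {x : G} : x ∈ Cfsg.fixedSubgroup α ↔ α x = x := Iff.rfl

variable {α : MulAut G} {τ : G}

theorem Setup.tau_mem (h : Setup α τ) : τ ∈ Cfsg.fixedSubgroup α :=
  h.cent (Subgroup.mem_centralizer_singleton_iff.2 rfl)

theorem Setup.mul_self (h : Setup α τ) : τ * τ = 1 := by
  rw [← pow_two, ← h.inv, pow_orderOf_eq_one]

theorem Setup.inv_eq (h : Setup α τ) : τ⁻¹ = τ := inv_eq_of_mul_eq_one_right h.mul_self

/-- `C(x)` is invariant when `x` is fixed. -/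
theorem inv_centralizer {x : G} (hx : α x = x) : Inv α (Subgroup.centralizer ({x} : Set G)) := by
  intro y hy
  rw [Subgroup.mem_centralizer_singleton_iff] at hy ⊢
  calc α y * x = α y * α x := by rw [hx]
    _ = α (y * x) := (map_mul α y x).symm
    _ = α (x * y) := by rw [hy]
    _ = x * α y := by rw [map_mul, hx]

theorem conj_eq_of_commute {g x : G} (h : Commute g x) : g * x * g⁻¹ = x := by
  rw [h.eq, mul_inv_cancel_right]

/-- An involution inverting `d` of odd order is conjugate to the product by a power of `d`. -/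
theorem exists_conj_mul {t d : G} (ht : t * t = 1) (hd : t * d * t = d⁻¹) (ho : Odd (orderOf d)) :
    ∃ m ∈ Subgroup.zpowers d, m * t * m⁻¹ = t * d := by
  obtain ⟨j, hj⟩ := ho
  refine ⟨d ^ j, Subgroup.npow_mem_zpowers d j, ?_⟩
  have h1 : t * d ^ j * t⁻¹ = (d ^ j)⁻¹ := by
    rw [← conj_pow, inv_eq_of_mul_eq_one_right ht, hd, inv_pow]
  have h2 : d ^ j * t = t * (d ^ j)⁻¹ := by
    rw [← h1, inv_eq_of_mul_eq_one_right ht, ← mul_assoc, ← mul_assoc, ht, one_mul]
  have h3 : d * (d ^ j * d ^ j) = 1 := by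
    rw [← pow_add, ← pow_succ', ← two_mul, ← hj, pow_orderOf_eq_one]
  have h4 : d = (d ^ j * d ^ j)⁻¹ := eq_inv_of_mul_eq_one_left h3
  calc d ^ j * t * (d ^ j)⁻¹ = t * (d ^ j * d ^ j)⁻¹ := by rw [h2, mul_assoc, mul_inv_rev]
    _ = t * d := by rw [← h4]

variable [Finite G]

/-- An element moved by `α` inside a left coset of the fixed subgroup is fixed. -/
theorem Setup.mem_of_div (h : Setup α τ) {g : G} (hg : g⁻¹ * α g ∈ Cfsg.fixedSubgroup α) :
    g ∈ Cfsg.fixedSubgroup α := by
  set c := g⁻¹ * α g with hc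
  have hcf : α c = c := hg
  have hk : ∀ k : ℕ, (α ^ k) g = g * c ^ k := fun k => by
    induction k with
    | zero => simp
    | succ k ih =>
      rw [pow_succ', MulAut.mul_apply, ih, map_mul, map_pow, hcf, pow_succ', hc, ← mul_assoc,
        mul_inv_cancel_left]
  have h1 := hk (orderOf α)
  rw [pow_orderOf_eq_one, MulAut.one_apply, left_eq_mul] at h1
  have h2 : c = 1 := orderOf_eq_one_iff.1
    (Nat.eq_one_of_dvd_coprimes h.cop (orderOf_dvd_of_pow_eq_one h1) (orderOf_dvd_natCard c))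
  rw [hc, inv_mul_eq_one] at h2
  exact h2.symm

/-- A conjugate of `τ` is fixed only when the conjugating element is. -/
theorem Setup.mem_of_conj (h : Setup α τ) {g : G} (hg : g * τ * g⁻¹ ∈ Cfsg.fixedSubgroup α) :
    g ∈ Cfsg.fixedSubgroup α := by
  have h1 : α g * τ * (α g)⁻¹ = g * τ * g⁻¹ := by
    have h2 : α (g * τ * g⁻¹) = g * τ * g⁻¹ := hg
    rwa [map_mul, map_mul, map_inv, show α τ = τ from h.tau_mem] at h2
  refine h.mem_of_div (h.cent (Subgroup.mem_centralizer_singleton_iff.2 ?_))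
  have h3 := congrArg (fun y => g⁻¹ * y * α g) h1
  simpa [mul_assoc] using h3

/-- An invariant coset of an invariant subgroup contains a fixed element. -/
theorem Setup.exists_fixed (h : Setup α τ) {H : Subgroup G} (hH : Inv α H) {g : G}
    (hg : g⁻¹ * α g ∈ H) : ∃ c ∈ Cfsg.fixedSubgroup α, g⁻¹ * c ∈ H := by
  have hcop : (Nat.card (Subgroup.zpowers α)).Coprime (Nat.card G) := by
    rw [Nat.card_zpowers]; exact h.cop
  have hk : ∀ k : ℕ, (α ^ k) g⁻¹ * g ∈ H := fun k => by
    induction k with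
    | zero => simp
    | succ k ih =>
      have h1 := H.mul_mem (hH _ ih) (H.inv_mem hg)
      rw [map_mul, mul_inv_rev, inv_inv, mul_assoc, mul_inv_cancel_left] at h1
      rwa [pow_succ', MulAut.mul_apply]
  have hN : ∀ k : ℕ, ∀ x ∈ H, (α ^ k) x ∈ H := fun k => by
    induction k with
    | zero => simp
    | succ k ih => intro x hx; rw [pow_succ', MulAut.mul_apply]; exact hH _ (ih x hx)
  obtain ⟨c, hc, hcg⟩ := Coprime.exists_smul_fixed_of_coset (A := ↥(Subgroup.zpowers α)) (G := G)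
    hcop (Or.inl inferInstance) (N := H)
    (by
      rintro ⟨a, ha⟩ x hx
      obtain ⟨k, rfl⟩ := mem_powers_iff_mem_zpowers.2 ha
      exact hN k x hx)
    (g := g⁻¹) (by
      rintro ⟨a, ha⟩
      obtain ⟨k, rfl⟩ := mem_powers_iff_mem_zpowers.2 ha
      rw [inv_inv]
      exact hk k)
  rw [inv_inv] at hcg
  refine ⟨c⁻¹, inv_mem (show c ∈ Cfsg.fixedSubgroup α from hc ⟨α, Subgroup.mem_zpowers α⟩), ?_⟩
  rw [← mul_inv_rev]
  exact H.inv_mem hcg

/-- The fixed subgroup controls fusion of its elements. -/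
theorem Setup.fusion (h : Setup α τ) {x g : G} (hx : x ∈ Cfsg.fixedSubgroup α)
    (hgx : g * x * g⁻¹ ∈ Cfsg.fixedSubgroup α) :
    ∃ c ∈ Cfsg.fixedSubgroup α, c * x * c⁻¹ = g * x * g⁻¹ ∧
      g⁻¹ * c ∈ Subgroup.centralizer ({x} : Set G) := by
  have h1 : α g * x * (α g)⁻¹ = g * x * g⁻¹ := by
    have h2 : α (g * x * g⁻¹) = g * x * g⁻¹ := hgx
    rwa [map_mul, map_mul, map_inv, show α x = x from hx] at h2
  have h3 : g⁻¹ * α g ∈ Subgroup.centralizer ({x} : Set G) := by
    rw [Subgroup.mem_centralizer_singleton_iff]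
    have h4 := congrArg (fun y => g⁻¹ * y * α g) h1
    simpa [mul_assoc] using h4
  obtain ⟨c, hc, hgc⟩ := h.exists_fixed (inv_centralizer hx) h3
  refine ⟨c, hc, ?_, hgc⟩
  have h5 := Subgroup.mem_centralizer_singleton_iff.1 hgc
  calc c * x * c⁻¹ = g * (g⁻¹ * c * x) * c⁻¹ := by group
    _ = g * (x * (g⁻¹ * c)) * c⁻¹ := by rw [h5]
    _ = g * x * g⁻¹ := by group

/-- A 2-subgroup containing `τ` is fixed pointwise. -/
theorem Setup.le_of_tau_mem (h : Setup α τ) {T : Subgroup G} (hT : IsPGroup 2 T) (hτ : τ ∈ T) :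
    T ≤ Cfsg.fixedSubgroup α := by
  haveI : Fact (Nat.Prime 2) := ⟨Nat.prime_two⟩
  haveI : Group.IsNilpotent T := hT.isNilpotent
  by_contra hle
  set D := (Cfsg.fixedSubgroup α).subgroupOf T with hD
  have hlt : D < ⊤ := lt_top_iff_ne_top.2 fun e => hle (Subgroup.subgroupOf_eq_top.1 e)
  obtain ⟨s, hs, hsD⟩ := SetLike.exists_of_lt (Group.normalizerCondition_of_isNilpotent D hlt)
  have h1 := (Subgroup.mem_normalizer_iff.1 hs (⟨τ, hτ⟩ : T)).1 (by exact h.tau_mem)
  exact hsD (h.mem_of_conj (g := (s : G)) h1)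

/-- Every invariant 2-subgroup is fixed pointwise. -/
theorem Setup.twoSubgroup_le (h : Setup α τ) {T : Subgroup G} (hT : IsPGroup 2 T) (hinv : Inv α T) :
    T ≤ Cfsg.fixedSubgroup α := by
  haveI : Fact (Nat.Prime 2) := ⟨Nat.prime_two⟩
  induction hn : Nat.card G - Nat.card T using Nat.strong_induction_on generalizing T with
  | _ n ih =>
    by_cases hsyl : ∃ Q : Sylow 2 G, (Q : Subgroup G) = T
    · obtain ⟨Q, rfl⟩ := hsyl
      obtain ⟨P, hP⟩ := (IsPGroup.of_card (G := Subgroup.zpowers τ) (p := 2) (n := 1)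
        (by rw [Nat.card_zpowers, h.inv, pow_one])).exists_le_sylow
      have hPC := h.le_of_tau_mem P.isPGroup' (hP (Subgroup.mem_zpowers τ))
      obtain ⟨g, rfl⟩ := MulAction.exists_smul_eq G P Q
      have h1 : g⁻¹ * α g ∈ Subgroup.normalizer ((P : Subgroup G) : Set G) := by
        refine Coprime.mem_normalizer_of_forall fun y hy => ?_
        have h2 : g * y * g⁻¹ ∈ ((g • P : Sylow 2 G) : Subgroup G) :=
          Subgroup.smul_mem_pointwise_smul y (MulAut.conj g) _ hy
        have h3 := hinv _ h2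
        rw [map_mul, map_mul, map_inv, show α y = y from hPC hy] at h3
        obtain ⟨z, hz, hze⟩ := h3
        have hze' : g * z * g⁻¹ = α g * y * (α g)⁻¹ := hze
        have h4 : g⁻¹ * α g * y * (g⁻¹ * α g)⁻¹ = z := by
          calc g⁻¹ * α g * y * (g⁻¹ * α g)⁻¹ = g⁻¹ * (α g * y * (α g)⁻¹) * g := by group
            _ = g⁻¹ * (g * z * g⁻¹) * g := by rw [hze']
            _ = z := by group
        rw [h4]; exact hz
      have hNinv : Inv α (Subgroup.normalizer ((P : Subgroup G) : Set G)) :=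
        Inv.normalizer fun y hy => by rw [show α y = y from hPC hy]; exact hy
      obtain ⟨c, hc, hgc⟩ := h.exists_fixed hNinv h1
      rintro x ⟨z, hz, rfl⟩
      have h5 := (Subgroup.mem_normalizer_iff.1 (Subgroup.inv_mem _ hgc) z).1 hz
      have h6 : g * z * g⁻¹ = c * ((g⁻¹ * c)⁻¹ * z * ((g⁻¹ * c)⁻¹)⁻¹) * c⁻¹ := by group
      show g * z * g⁻¹ ∈ _
      rw [h6]
      exact mul_mem (mul_mem hc (hPC h5)) (inv_mem hc)
    · have hNinv : Inv α (Subgroup.normalizer (T : Set G)) := hinv.normalizer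
      set N := Subgroup.normalizer (T : Set G) with hN
      have hcopN : (Nat.card (Subgroup.zpowers (FpfControl.restrictAut α hNinv))).Coprime (Nat.card N) := by
        rw [Nat.card_zpowers]
        refine (h.cop.coprime_dvd_left (orderOf_dvd_of_pow_eq_one (MulEquiv.ext fun x => Subtype.ext ?_))).coprime_dvd_right
          N.card_subgroup_dvd_card
        rw [FpfControl.restrictAut_pow, pow_orderOf_eq_one]
        rfl
      obtain ⟨T1, hT1⟩ := Coprime.exists_smul_invariant_sylow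
        (A := ↥(Subgroup.zpowers (FpfControl.restrictAut α hNinv))) (G := ↥N) hcopN (Or.inl inferInstance) 2
      haveI : (T.subgroupOf N).Normal := Subgroup.normal_in_normalizer
      have hle : T.subgroupOf N ≤ (T1 : Subgroup N) := by
        refine le_trans ?_ (Cores.pCore_le_sylow T1)
        exact Cores.le_pCore inferInstance (hT.of_equiv (Subgroup.subgroupOfEquivOfLe Subgroup.le_normalizer).symm)
      set T' := (T1 : Subgroup N).map N.subtype with hT'
      have hTT' : T ≤ T' := fun x hx => ⟨⟨x, Subgroup.le_normalizer hx⟩, hle hx, rfl⟩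
      have hne : T ≠ T' := by
        intro e
        obtain ⟨Q, hQ⟩ := hT.exists_le_sylow
        have hlt : T < (Q : Subgroup G) := lt_of_le_of_ne hQ fun e' => hsyl ⟨Q, e'.symm⟩
        haveI : Group.IsNilpotent Q := Q.isPGroup'.isNilpotent
        set D := T.subgroupOf (Q : Subgroup G) with hD
        have hDlt : D < ⊤ := lt_top_iff_ne_top.2 fun e' => hlt.not_ge (Subgroup.subgroupOf_eq_top.1 e')
        obtain ⟨s, hs, hsD⟩ := SetLike.exists_of_lt (Group.normalizerCondition_of_isNilpotent D hDlt)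
        have hsN : (s : G) ∈ N := Coprime.mem_normalizer_of_forall fun y hy =>
          (Subgroup.mem_normalizer_iff.1 hs ⟨y, hQ hy⟩).1 hy
        have hR : IsPGroup 2 ↥((Q : Subgroup G).subgroupOf N) :=
          Q.isPGroup'.comap_of_injective N.subtype N.subtype_injective
        have h1 : (Q : Subgroup G).subgroupOf N = (T1 : Subgroup N) := T1.is_maximal' hR (fun y hy => by
          have : (y : G) ∈ T := e.symm ▸ Subgroup.mem_map_of_mem N.subtype hy
          exact hQ this)
        have h2 : (⟨(s : G), hsN⟩ : N) ∈ (T1 : Subgroup N) := h1 ▸ (s.2 : (s : G) ∈ (Q : Subgroup G))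
        exact hsD (show (s : G) ∈ T from e.symm ▸ Subgroup.mem_map_of_mem N.subtype h2)
      have hinv' : Inv α T' := by
        rintro _ ⟨y, hy, rfl⟩
        exact ⟨_, hT1 ⟨_, Subgroup.mem_zpowers _⟩ y hy, rfl⟩
      have hlt' : Nat.card T < Nat.card T' := by
        refine lt_of_le_of_ne (Subgroup.card_le_of_le hTT') fun e => hne ?_
        exact Subgroup.eq_of_le_of_card_ge hTT' e.ge
      exact hTT'.trans (ih _ (by have := Subgroup.card_le_card_group T'; omega)
        (T1.isPGroup'.map N.subtype) hinv' rfl)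

/-- An element inverted by `τ` with a fixed conjugate is fixed. -/
theorem Setup.inverted_mem (h : Setup α τ) {i g : G} (hi : τ * i * τ = i⁻¹)
    (hg : g⁻¹ * i * g ∈ Cfsg.fixedSubgroup α) : i ∈ Cfsg.fixedSubgroup α := by
  haveI : Fact (Nat.Prime 2) := ⟨Nat.prime_two⟩
  set k := g⁻¹ * i * g with hk
  have hH : Inv α (Subgroup.zpowers k) := by
    rintro _ ⟨n, rfl⟩
    rw [map_zpow, show α k = k from hg]
    exact ⟨n, rfl⟩
  set N := Subgroup.normalizer ((Subgroup.zpowers k : Subgroup G) : Set G) with hN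
  have hNinv : Inv α N := hH.normalizer
  have ht : g⁻¹ * τ * g ∈ N := by
    refine Coprime.mem_normalizer_of_forall fun y hy => ?_
    obtain ⟨n, rfl⟩ := hy
    refine ⟨-n, ?_⟩
    have h1 : g⁻¹ * τ * g * k * (g⁻¹ * τ * g)⁻¹ = k⁻¹ := by
      calc g⁻¹ * τ * g * k * (g⁻¹ * τ * g)⁻¹ = g⁻¹ * (τ * i * τ⁻¹) * g := by rw [hk]; group
        _ = g⁻¹ * i⁻¹ * g := by rw [h.inv_eq, hi]
        _ = k⁻¹ := by rw [hk]; group
    simp only [zpow_neg]
    rw [← conj_zpow, h1, inv_zpow]
  have hcopN : (Nat.card (Subgroup.zpowers (FpfControl.restrictAut α hNinv))).Coprime (Nat.card N) := by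
    rw [Nat.card_zpowers]
    refine (h.cop.coprime_dvd_left (orderOf_dvd_of_pow_eq_one (MulEquiv.ext fun x => Subtype.ext ?_))).coprime_dvd_right
      N.card_subgroup_dvd_card
    rw [FpfControl.restrictAut_pow, pow_orderOf_eq_one]
    rfl
  obtain ⟨T, hT⟩ := Coprime.exists_smul_invariant_sylow
    (A := ↥(Subgroup.zpowers (FpfControl.restrictAut α hNinv))) (G := ↥N) hcopN (Or.inl inferInstance) 2
  have hTC : (T : Subgroup N).map N.subtype ≤ Cfsg.fixedSubgroup α :=
    h.twoSubgroup_le (T.isPGroup'.map N.subtype) (by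
      rintro _ ⟨y, hy, rfl⟩
      exact ⟨_, hT ⟨_, Subgroup.mem_zpowers _⟩ y hy, rfl⟩)
  have ho : orderOf (⟨g⁻¹ * τ * g, ht⟩ : N) = 2 := by
    rw [← Subgroup.orderOf_coe]
    have := (MulAut.conj g⁻¹).orderOf_eq τ
    simp only [MulAut.conj_apply, inv_inv] at this
    rw [this, h.inv]
  obtain ⟨R, hR⟩ := (IsPGroup.of_card (G := Subgroup.zpowers (⟨g⁻¹ * τ * g, ht⟩ : N)) (p := 2) (n := 1)
    (by rw [Nat.card_zpowers, ho, pow_one])).exists_le_sylow
  obtain ⟨y, rfl⟩ := MulAction.exists_smul_eq N R T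
  have h1 : (y : G) * (g⁻¹ * τ * g) * (y : G)⁻¹ ∈ Cfsg.fixedSubgroup α :=
    hTC ⟨y * ⟨g⁻¹ * τ * g, ht⟩ * y⁻¹,
      Subgroup.smul_mem_pointwise_smul _ (MulAut.conj y) _ (hR (Subgroup.mem_zpowers _)), rfl⟩
  have hc : (y : G) * g⁻¹ ∈ Cfsg.fixedSubgroup α := h.mem_of_conj (by
    convert h1 using 1; group)
  obtain ⟨n, hn⟩ := (Subgroup.mem_normalizer_iff.1 y.2 k).1 (Subgroup.mem_zpowers k)
  have h2 : (y : G) * k * (y : G)⁻¹ ∈ Cfsg.fixedSubgroup α := hn ▸ zpow_mem hg n
  have h3 : i = ((y : G) * g⁻¹)⁻¹ * ((y : G) * k * (y : G)⁻¹) * ((y : G) * g⁻¹) := by rw [hk]; group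
  rw [h3]
  exact mul_mem (mul_mem (inv_mem hc) h2) hc

end Cfsg.Agent.CoprimeCentral
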