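import Cfsg.Agent.Lib.CoprimeCentral.Decomp

/-!
# The count of a class not meeting the class of `τ` (owner: helper81)

For an involution `z` not conjugate to `τ` and `g : G` the sets `{u ~ z | g⁻¹ * u * g ∈ C}` and
`{u ~ z | u ∈ C}`, `C` the fixed subgroup, are in a bijection preserving the key
`(invol (τ * u), u * O(C(invol (τ * u))))` (`Loc.exists_equiv`).  Hence neither `C(z)` nor
`C(invol (τ * z))` lies in `C` for `z ∈ C` (`Loc.cent_not_le`, `Loc.cent_invol_not_le`).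
-/

set_option autoImplicit false
set_option linter.unusedSectionVars false

namespace Cfsg.Agent.CoprimeCentral

universe u

variable {G : Type u} [Group G] [Finite G] {α : MulAut G} {τ : G}

/-- The setting after the induction. -/
structure Loc (α : MulAut G) (τ : G) : Prop extends Setup α τ where
  loc : ∀ x : G, orderOf x = 2 → Commute τ x →
    ∀ y ∈ Subgroup.centralizer ({x} : Set G), y⁻¹ * α y ∈ coreAt x
  core : ∀ y : G, (∀ g : G, g * y * g⁻¹ ∈ Cfsg.fixedSubgroup α) → y = 1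

/-- The key of `u`. -/
noncomputable def key (τ u : G) : G × Set G :=
  (invol (τ * u), {y : G | u⁻¹ * y ∈ coreAt (invol (τ * u))})

theorem key_eq {u u' : G} (h : key τ u = key τ u') :
    invol (τ * u') = invol (τ * u) ∧ u⁻¹ * u' ∈ coreAt (invol (τ * u)) := by
  refine ⟨(congrArg Prod.fst h).symm, ?_⟩
  have h1 : u' ∈ (key τ u').2 := by
    show u'⁻¹ * u' ∈ coreAt _
    rw [inv_mul_cancel]
    exact one_mem _
  rw [← h] at h1
  exact h1

theorem key_congr {u u' : G} (h2 : orderOf (invol (τ * u)) = 2)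
    (hl : u⁻¹ * u' ∈ coreAt (invol (τ * u))) : key τ u' = key τ u := by
  have h1 : invol (τ * u) = invol (τ * u') := by
    refine invol_unique ?_ h2
    have h3 := invol_congr (invol_mem (τ * u)) h2 hl
    rwa [← mul_assoc, mul_assoc τ u u⁻¹, mul_inv_cancel, mul_one] at h3
  refine Prod.ext h1.symm (Set.ext fun y => ?_)
  show u'⁻¹ * y ∈ coreAt (invol (τ * u')) ↔ u⁻¹ * y ∈ coreAt (invol (τ * u))
  rw [← h1, ← Subgroup.mul_mem_cancel_left _ hl (y := u'⁻¹ * y), mul_assoc, mul_inv_cancel_left]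

theorem Setup.twoElt_mem (h : Setup α τ) {σ : G} (hσ : TwoElt σ) (hi : τ * σ * τ = σ⁻¹) :
    σ ∈ Cfsg.fixedSubgroup α := by
  obtain ⟨k, hk⟩ := hσ
  induction k generalizing σ with
  | zero => rw [pow_zero, pow_one] at hk; rw [hk]; exact one_mem _
  | succ k ih =>
    rw [pow_succ', pow_mul] at hk
    have h2 : τ * σ ^ 2 * τ = (σ ^ 2)⁻¹ := by
      calc τ * σ ^ 2 * τ = (τ * σ * τ) * ((τ * τ)⁻¹ * (τ * σ * τ)) := by rw [pow_two]; group
        _ = (σ ^ 2)⁻¹ := by rw [hi, h.mul_self, inv_one, one_mul, ← mul_inv_rev, pow_two]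
    have h3 := ih h2 hk
    refine h.mem_of_conj ?_
    have h4 : τ * σ⁻¹ = σ * τ := by
      rw [← hi, ← mul_assoc, ← mul_assoc, h.mul_self, one_mul]
    rw [mul_assoc, h4, ← mul_assoc, ← pow_two]
    exact mul_mem h3 h.tau_mem

section

/-- The chosen decomposition. -/
noncomputable def bs (τ u : G) : G :=
  @Classical.epsilon G ⟨1⟩ fun b => ∃ w, Dec τ u b w

/-- The chosen decomposition. -/
noncomputable def ws (τ u : G) : G :=
  @Classical.epsilon G ⟨1⟩ fun w => Dec τ u (bs τ u) w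

theorem dec_spec (ht : τ * τ = 1) {u : G} (hu : u * u = 1) : Dec τ u (bs τ u) (ws τ u) := by
  obtain ⟨b, w, hd⟩ := exists_dec ht hu
  have h1 : ∃ w, Dec τ u (bs τ u) w :=
    Classical.epsilon_spec (p := fun b => ∃ w, Dec τ u b w) ⟨b, w, hd⟩
  exact Classical.epsilon_spec (p := fun w => Dec τ u (bs τ u) w) h1

variable {z : G}

theorem orderOf_of_isConj (hz : orderOf z = 2) {u : G} (hu : IsConj z u) : orderOf u = 2 := by
  obtain ⟨c, rfl⟩ := isConj_iff.1 hu
  rw [← hz]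
  exact (MulAut.conj c).orderOf_eq z

theorem sq_of_orderOf {u : G} (hu : orderOf u = 2) : u * u = 1 := by
  rw [← pow_two, ← hu, pow_orderOf_eq_one]

/-- Facts about the involution of `⟨τ * u⟩`. -/
theorem Setup.invol_facts (h : Setup α τ) (hz : orderOf z = 2) (hnc : ¬ IsConj τ z) {u : G}
    (hu : IsConj z u) :
    orderOf (invol (τ * u)) = 2 ∧ Commute τ (invol (τ * u)) ∧
      invol (τ * u) ∈ Cfsg.fixedSubgroup α ∧
      Subgroup.zpowers (τ * u) ≤ Subgroup.centralizer ({invol (τ * u)} : Set G) ∧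
      u ∈ Subgroup.centralizer ({invol (τ * u)} : Set G) ∧
      τ ∈ Subgroup.centralizer ({invol (τ * u)} : Set G) := by
  have hu2 := sq_of_orderOf (orderOf_of_isConj hz hu)
  have hev : Even (orderOf (τ * u)) := by
    rw [← Nat.not_odd_iff_even]
    intro ho
    obtain ⟨j, hj⟩ := ho
    have hd : τ * (τ * u) * τ = (τ * u)⁻¹ := (inverts_zpowers h.mul_self hu2 (Subgroup.mem_zpowers _)).1
    obtain ⟨m, -, hm⟩ := exists_conj_mul h.mul_self hd ⟨j, hj⟩
    rw [← mul_assoc, h.mul_self, one_mul] at hm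
    exact hnc ((isConj_iff.2 ⟨m, hm⟩).trans hu.symm)
  have hx := orderOf_invol hev
  set x := invol (τ * u) with hxdef
  have hxi : x⁻¹ = x := inv_eq_of_mul_eq_one_right (sq_of_orderOf hx)
  obtain ⟨h1, h2⟩ := inverts_zpowers h.mul_self hu2 (invol_mem (τ * u))
  rw [← hxdef, hxi] at h1 h2
  have hτ : Commute τ x := by
    show τ * x = x * τ
    conv_rhs => rw [← h1, mul_assoc, h.mul_self, mul_one]
  have hux : u ∈ Subgroup.centralizer ({x} : Set G) := by
    rw [Subgroup.mem_centralizer_singleton_iff]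
    conv_rhs => rw [← h2, mul_assoc, hu2, mul_one]
  have hτx : τ ∈ Subgroup.centralizer ({x} : Set G) := Subgroup.mem_centralizer_singleton_iff.2 hτ.eq
  refine ⟨hx, hτ, h.cent (Subgroup.mem_centralizer_singleton_iff.2 hτ.symm.eq), ?_, hux, hτx⟩
  rw [Subgroup.zpowers_le]
  exact mul_mem hτx hux

theorem Setup.bs_mem (h : Setup α τ) {u : G} (hu : u * u = 1) :
    bs τ u ∈ Cfsg.fixedSubgroup α := by
  have d := dec_spec h.mul_self hu
  have h1 := h.twoElt_mem d.two (by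
    rw [← mul_assoc, h.mul_self, one_mul, mul_inv_rev, h.inv_eq, inv_eq_of_mul_eq_one_right d.sq])
  have h2 := mul_mem h.tau_mem h1
  rwa [← mul_assoc, h.mul_self, one_mul] at h2

/-- Two elements with the same key and base give an element of `C` with that base. -/
theorem Loc.transfer (h : Loc α τ) (hz : orderOf z = 2) (hnc : ¬ IsConj τ z) {g u u₁ : G}
    (hu : IsConj z u) (hu₁ : IsConj z u₁) (hg : g⁻¹ * u * g ∈ Cfsg.fixedSubgroup α)
    (hg₁ : g⁻¹ * u₁ * g ∈ Cfsg.fixedSubgroup α) (hk : key τ u = key τ u₁) (hb : bs τ u = bs τ u₁) :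
    (ws τ u₁)⁻¹ * u * ws τ u₁ ∈ Cfsg.fixedSubgroup α ∧
      bs τ ((ws τ u₁)⁻¹ * u * ws τ u₁) = bs τ u := by
  have hu2 := sq_of_orderOf (orderOf_of_isConj hz hu)
  have hu12 := sq_of_orderOf (orderOf_of_isConj hz hu₁)
  have ht := h.toSetup.mul_self
  have d := dec_spec ht hu2
  have d₁ := dec_spec ht hu12
  rw [← hb] at d₁
  obtain ⟨hx, -, -, hZ, -, hτx⟩ := h.toSetup.invol_facts hz hnc hu
  obtain ⟨-, -, -, hZ₁, -, -⟩ := h.toSetup.invol_facts hz hnc hu₁
  obtain ⟨hxe, hl⟩ := key_eq hk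
  rw [hxe] at hZ₁
  set b := bs τ u with hbdef
  set w := ws τ u with hw
  set w₁ := ws τ u₁ with hw₁
  set r' := w⁻¹ * w₁ with hr'def
  have hr'L : r' ∈ coreAt (invol (τ * u)) := d.congr d₁ ht hZ hZ₁ hl
  have hwi : τ * w = w⁻¹ * τ := by rw [← d.inv_t ht, mul_assoc (τ * w), ht, mul_one]
  have hwi₁ : τ * w₁ = w₁⁻¹ * τ := by rw [← d₁.inv_t ht, mul_assoc (τ * w₁), ht, mul_one]
  have hwi₁' : τ * w₁⁻¹ = w₁ * τ := by
    calc τ * w₁⁻¹ = (τ * w₁⁻¹ * τ⁻¹) * τ := by group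
      _ = (τ * w₁ * τ⁻¹)⁻¹ * τ := by group
      _ = w₁ * τ := by rw [h.toSetup.inv_eq, d₁.inv_t ht, inv_inv]
  have hvi : τ * (w₁⁻¹ * w * w * w₁⁻¹) * τ = (w₁⁻¹ * w * w * w₁⁻¹)⁻¹ := by
    calc τ * (w₁⁻¹ * w * w * w₁⁻¹) * τ = (τ * w₁⁻¹) * w * w * (w₁⁻¹ * τ) := by group
      _ = w₁ * ((τ * w) * w) * (τ * w₁) := by rw [hwi₁', hwi₁]; group
      _ = w₁ * (w⁻¹ * (τ * w)) * (τ * w₁) := by
        conv_lhs => rw [hwi]
        group
      _ = w₁ * w⁻¹ * w⁻¹ * ((τ * τ) * w₁) := by rw [hwi]; group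
      _ = _ := by rw [ht, one_mul]; group
  have hgvi : (w₁⁻¹ * g)⁻¹ * (w₁⁻¹ * w * w * w₁⁻¹) * (w₁⁻¹ * g) ∈ Cfsg.fixedSubgroup α := by
    have h1 : u = w * w * b := by
      rw [d.eq, mul_assoc, mul_assoc]
      congr 1
      calc b * w⁻¹ = b * (b * w * b) := by rw [d.inv_b ht]
        _ = b * b * (w * b) := by group
        _ = w * b := by rw [d.sq, one_mul]
    have h2 : u₁ = b * w₁⁻¹ * w₁⁻¹ := by
      rw [d₁.eq]
      congr 1
      rw [← d₁.inv_b ht]
      simp only [← mul_assoc, d₁.sq, one_mul]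
    have h3 := mul_mem hg hg₁
    have h4 : (w₁⁻¹ * g)⁻¹ * (w₁⁻¹ * w * w * w₁⁻¹) * (w₁⁻¹ * g) =
        g⁻¹ * u * g * (g⁻¹ * u₁ * g) := by
      rw [h1, h2]
      calc _ = g⁻¹ * (w * w * (w₁⁻¹ * w₁⁻¹)) * g := by group
        _ = g⁻¹ * (w * w * ((b * b) * (w₁⁻¹ * w₁⁻¹))) * g := by rw [d.sq, one_mul]
        _ = _ := by group
    rw [h4]
    exact h3
  have hv1 := h.toSetup.inverted_mem hvi hgvi
  have hrinv : (w * w₁⁻¹)⁻¹ ∈ Cfsg.fixedSubgroup α := by
    refine h.toSetup.mem_of_conj ?_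
    have h1 : (w * w₁⁻¹)⁻¹ * τ * (w * w₁⁻¹)⁻¹⁻¹ = (w₁⁻¹ * w * w * w₁⁻¹)⁻¹ * τ := by
      calc _ = w₁ * w⁻¹ * ((τ * w) * w₁⁻¹) := by group
        _ = w₁ * w⁻¹ * w⁻¹ * (τ * w₁⁻¹) := by rw [hwi]; group
        _ = _ := by rw [hwi₁']; group
    rw [h1]
    exact mul_mem (inv_mem hv1) h.toSetup.tau_mem
  have hrr : r' = τ * (w * w₁⁻¹) * τ := by
    rw [← mul_assoc, hwi, mul_assoc w⁻¹, hwi₁', mul_assoc, mul_assoc, ht, mul_one]
  have hr' : r' ∈ Cfsg.fixedSubgroup α := by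
    rw [hrr]
    exact mul_mem (mul_mem h.toSetup.tau_mem (inv_mem_iff.1 hrinv)) h.toSetup.tau_mem
  have hv : w₁⁻¹ * u * w₁ = r'⁻¹ * b * r' := by
    rw [hr'def]
    conv_lhs => rw [d.eq]
    group
  rw [hv]
  refine ⟨mul_mem (mul_mem (inv_mem hr') (h.toSetup.bs_mem hu2)) hr', ?_⟩
  have hv2 : r'⁻¹ * b * r' * (r'⁻¹ * b * r') = 1 := by
    calc _ = r'⁻¹ * (b * b) * r' := by group
      _ = 1 := by rw [d.sq, mul_one, inv_mul_cancel]
  have dv := dec_spec ht hv2
  have hc : Commute (τ * b) r' := d.comm.inv_right.mul_right d₁.comm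
  have he : τ * b * ((τ * r'⁻¹ * τ) * r') = τ * (r'⁻¹ * b * r') := by
    have hrc : Commute (τ * b) (τ * r'⁻¹ * τ) := by
      have : τ * r'⁻¹ * τ = (w * w₁⁻¹)⁻¹ := by
        rw [hrr, mul_inv_rev, mul_inv_rev, h.toSetup.inv_eq]
        simp only [mul_assoc, ht, mul_one]
        simp only [← mul_assoc, ht, one_mul]
      rw [this]
      exact (d.comm.mul_right d₁.comm.inv_right).inv_right
    rw [← mul_assoc, hrc.eq]
    calc τ * r'⁻¹ * τ * (τ * b) * r' = τ * r'⁻¹ * (τ * τ) * b * r' := by group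
      _ = _ := by rw [ht]; group
  have hL : τ * r'⁻¹ * τ * r' ∈ coreAt (invol (τ * u)) := by
    have h1 := coreAt_conj hτx (inv_mem hr'L)
    rw [h.toSetup.inv_eq] at h1
    exact mul_mem h1 hr'L
  have hrc2 : Commute (τ * b) (τ * r'⁻¹ * τ * r') := by
    have : τ * r'⁻¹ * τ = (w * w₁⁻¹)⁻¹ := by
      rw [hrr, mul_inv_rev, mul_inv_rev, h.toSetup.inv_eq]
      simp only [mul_assoc, ht, mul_one]
      simp only [← mul_assoc, ht, one_mul]
    rw [this]
    exact ((d.comm.mul_right d₁.comm.inv_right).inv_right).mul_right hc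
  exact mul_left_cancel (dv.base_eq ht d.two (coreAt_orderOf hL) hrc2 he)

/-- The bijection. -/
theorem Loc.exists_equiv (h : Loc α τ) (hz : orderOf z = 2) (hnc : ¬ IsConj τ z) (g : G) :
    ∃ Φ : {u : G // IsConj z u ∧ g⁻¹ * u * g ∈ Cfsg.fixedSubgroup α} ≃
        {u : G // IsConj z u ∧ u ∈ Cfsg.fixedSubgroup α},
      ∀ u, key τ (Φ u : G) = key τ (u : G) := by
  classical
  have : Nonempty G := ⟨1⟩
  let P : G → Prop := fun u => IsConj z u ∧ g⁻¹ * u * g ∈ Cfsg.fixedSubgroup α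
  let rep : G → G := fun u => Classical.epsilon fun u' => P u' ∧ key τ u' = key τ u ∧ bs τ u' = bs τ u
  let r0 : G × Set G → G := fun k => Classical.epsilon fun u' => P u' ∧ key τ u' = k
  let cc : G × Set G → G := fun k => Classical.epsilon fun c =>
    c ∈ Cfsg.fixedSubgroup α ∧ (ws τ (r0 k))⁻¹ * c ∈ coreAt k.1
  have hrep : ∀ u, P u → P (rep u) ∧ key τ (rep u) = key τ u ∧ bs τ (rep u) = bs τ u := fun u hu =>
    Classical.epsilon_spec (p := fun u' => P u' ∧ key τ u' = key τ u ∧ bs τ u' = bs τ u)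
      ⟨u, hu, rfl, rfl⟩
  have hr0 : ∀ u, P u → P (r0 (key τ u)) ∧ key τ (r0 (key τ u)) = key τ u := fun u hu =>
    Classical.epsilon_spec (p := fun u' => P u' ∧ key τ u' = key τ u) ⟨u, hu, rfl⟩
  have ht := h.toSetup.mul_self
  have hcc : ∀ u, P u → cc (key τ u) ∈ Cfsg.fixedSubgroup α ∧
      (ws τ (r0 (key τ u)))⁻¹ * cc (key τ u) ∈ coreAt (invol (τ * u)) := by
    intro u hu
    refine Classical.epsilon_spec (p := fun c => c ∈ Cfsg.fixedSubgroup α ∧
      (ws τ (r0 (key τ u)))⁻¹ * c ∈ coreAt (key τ u).1) ?_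
    obtain ⟨⟨h0, -⟩, hk0⟩ := hr0 u hu
    obtain ⟨hx, hτc, hxC, hZ, -, -⟩ := h.toSetup.invol_facts hz hnc h0
    rw [(key_eq hk0.symm).1] at hx hτc hxC hZ
    have hw := hZ (dec_spec ht (sq_of_orderOf (orderOf_of_isConj hz h0))).wmem
    exact h.toSetup.exists_fixed (coreAt_inv hxC) (h.loc _ hx hτc _ hw)
  let v : G → G := fun u => (ws τ (rep u))⁻¹ * u * ws τ (rep u)
  let ψ : G → G := fun u => cc (key τ u) * v u * (cc (key τ u))⁻¹
  have hv : ∀ u, P u → v u ∈ Cfsg.fixedSubgroup α ∧ bs τ (v u) = bs τ u := fun u hu => by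
    obtain ⟨⟨h1, h2⟩, h3, h4⟩ := hrep u hu
    exact h.transfer hz hnc hu.1 h1 hu.2 h2 h3.symm h4.symm
  have hψC : ∀ u, P u → IsConj z (ψ u) ∧ ψ u ∈ Cfsg.fixedSubgroup α := fun u hu => by
    refine ⟨hu.1.trans (isConj_iff.2 ⟨cc (key τ u) * (ws τ (rep u))⁻¹, by simp only [ψ, v]; group⟩), ?_⟩
    exact mul_mem (mul_mem (hcc u hu).1 (hv u hu).1) (inv_mem (hcc u hu).1)
  have hkey : ∀ u, P u → key τ (ψ u) = key τ u := fun u hu => by
    obtain ⟨hx, -, -, -, hux, -⟩ := h.toSetup.invol_facts hz hnc hu.1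
    refine key_congr hx ?_
    obtain ⟨⟨h1, -⟩, h3, -⟩ := hrep u hu
    obtain ⟨⟨h0, -⟩, hk0⟩ := hr0 u hu
    obtain ⟨-, -, -, hZ1, -, -⟩ := h.toSetup.invol_facts hz hnc h1
    obtain ⟨-, -, -, hZ0, -, -⟩ := h.toSetup.invol_facts hz hnc h0
    rw [(key_eq h3.symm).1] at hZ1
    rw [(key_eq hk0.symm).1] at hZ0
    have d1 := dec_spec ht (sq_of_orderOf (orderOf_of_isConj hz h1))
    have d0 := dec_spec ht (sq_of_orderOf (orderOf_of_isConj hz h0))
    have he : (rep u)⁻¹ * r0 (key τ u) ∈ coreAt (invol (τ * u)) := by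
      have := (key_eq (h3.trans hk0.symm)).2
      rwa [(key_eq h3.symm).1] at this
    set w1 := ws τ (rep u) with hw1
    set l := w1⁻¹ * cc (key τ u) with hl
    have hlL : l ∈ coreAt (invol (τ * u)) := by
      have := mul_mem (d1.congr d0 ht hZ1 hZ0 he) (hcc u hu).2
      rw [hl]
      convert this using 1
      group
    have hm : w1 * l * w1⁻¹ ∈ coreAt (invol (τ * u)) := coreAt_conj (hZ1 d1.wmem) hlL
    have h5 := mul_mem (coreAt_conj (inv_mem hux) hm) (inv_mem hm)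
    rw [inv_inv] at h5
    convert h5 using 1
    show u⁻¹ * (cc (key τ u) * (w1⁻¹ * u * w1) * (cc (key τ u))⁻¹) = _
    rw [hl]
    group
  have hinj : ∀ u u', P u → P u' → ψ u = ψ u' → u = u' := by
    intro u u' hu hu' e
    have hk : key τ u = key τ u' := by rw [← hkey u hu, e, hkey u' hu']
    have hve : v u = v u' := by
      simp only [ψ, hk] at e
      exact mul_left_cancel (mul_right_cancel e)
    have hb : bs τ u = bs τ u' := by rw [← (hv u hu).2, hve, (hv u' hu').2]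
    have hr : rep u = rep u' := by simp only [rep, hk, hb]
    simp only [v, hr] at hve
    exact mul_left_cancel (mul_right_cancel hve)
  have e1 : {u : G // P u} ≃ {u : G // IsConj z u ∧ u ∈ Cfsg.fixedSubgroup α} :=
    Equiv.subtypeEquiv (MulAut.conj g⁻¹).toEquiv fun u => by
      show _ ↔ IsConj z (g⁻¹ * u * g⁻¹⁻¹) ∧ g⁻¹ * u * g⁻¹⁻¹ ∈ _
      rw [inv_inv]
      exact and_congr_left fun _ => ⟨fun h1 => h1.trans (isConj_iff.2 ⟨g⁻¹, by rw [inv_inv]⟩),
        fun h1 => h1.trans (isConj_iff.2 ⟨g, by group⟩)⟩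
  let f : {u : G // P u} → {u : G // IsConj z u ∧ u ∈ Cfsg.fixedSubgroup α} :=
    fun u => ⟨ψ u, hψC u u.2⟩
  have hf : Function.Bijective f :=
    (Nat.bijective_iff_injective_and_card f).2
      ⟨fun a b e => Subtype.ext (hinj a b a.2 b.2 (congrArg Subtype.val e)), Nat.card_congr e1⟩
  exact ⟨Equiv.ofBijective f hf, fun u => hkey u u.2⟩

/-- The centraliser of an involution of `C` not conjugate to `τ` is not in `C`. -/
theorem Loc.cent_not_le (h : Loc α τ) (hz : orderOf z = 2) (hzC : z ∈ Cfsg.fixedSubgroup α)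
    (hnc : ¬ IsConj τ z) :
    ¬ Subgroup.centralizer ({z} : Set G) ≤ Cfsg.fixedSubgroup α := by
  intro hle
  obtain ⟨hx, -, hxC, -, -, -⟩ := h.toSetup.invol_facts hz hnc (IsConj.refl z)
  have hx1 : invol (τ * z) = 1 := by
    refine h.core _ fun g => ?_
    obtain ⟨Φ, hΦ⟩ := h.exists_equiv hz hnc g⁻¹
    obtain ⟨u, hu⟩ := Φ.surjective ⟨z, IsConj.refl z, hzC⟩
    have hk : key τ (u : G) = key τ z := by rw [← hΦ u, hu]
    have hzl := (key_eq hk.symm).2
    set l := z⁻¹ * (u : G) with hl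
    have hz2 := sq_of_orderOf hz
    have hu2 := sq_of_orderOf (orderOf_of_isConj hz u.2.1)
    have hinv : z * l * z = l⁻¹ := by
      rw [hl, mul_inv_cancel_left, mul_inv_rev, inv_inv z, inv_eq_of_mul_eq_one_right hu2]
    obtain ⟨m, hm, hmz⟩ := exists_conj_mul hz2 hinv (coreAt_orderOf hzl)
    have hml : m ∈ coreAt (invol (τ * z)) := (Subgroup.zpowers_le.2 hzl) hm
    rw [hl, mul_inv_cancel_left] at hmz
    have hgu := u.2.2
    rw [← hmz, inv_inv] at hgu
    obtain ⟨c, hc, -, hgc⟩ := h.toSetup.fusion (g := g * m) hzC (by convert hgu using 1; group)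
    have hgm : g * m ∈ Cfsg.fixedSubgroup α := by
      have := mul_mem hc (inv_mem (hle hgc))
      convert this using 1
      group
    have hmx : m * invol (τ * z) * m⁻¹ = invol (τ * z) :=
      conj_eq_of_commute (Subgroup.mem_centralizer_singleton_iff.1 (coreAt_le _ hml))
    have := mul_mem (mul_mem hgm hxC) (inv_mem hgm)
    convert this using 1
    conv_lhs => rw [← hmx]
    group
  rw [hx1, orderOf_one] at hx
  omega

/-- Nor is the centraliser of the involution of `⟨τ * z⟩`. -/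
theorem Loc.cent_invol_not_le (h : Loc α τ) (hz : orderOf z = 2) (hzC : z ∈ Cfsg.fixedSubgroup α)
    (hnc : ¬ IsConj τ z) :
    ¬ Subgroup.centralizer ({invol (τ * z)} : Set G) ≤ Cfsg.fixedSubgroup α := by
  classical
  intro hle
  have hz1 : z = 1 := by
    refine h.core _ fun g => ?_
    obtain ⟨Φ, hΦ⟩ := h.exists_equiv hz hnc g⁻¹
    have hfix : ∀ u : G, IsConj z u → key τ u = key τ z → u ∈ Cfsg.fixedSubgroup α := by
      intro u hu hk
      obtain ⟨-, -, -, -, hux, -⟩ := h.toSetup.invol_facts hz hnc hu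
      rw [(key_eq hk.symm).1] at hux
      exact hle hux
    let A := {u : G // (IsConj z u ∧ g⁻¹⁻¹ * u * g⁻¹ ∈ Cfsg.fixedSubgroup α) ∧ key τ u = key τ z}
    let B := {u : G // (IsConj z u ∧ u ∈ Cfsg.fixedSubgroup α) ∧ key τ u = key τ z}
    let i : A → B := fun u => ⟨u, ⟨u.2.1.1, hfix u u.2.1.1 u.2.2⟩, u.2.2⟩
    have hi : Function.Injective i := fun a b e => Subtype.ext (congrArg (fun t : B => (t : G)) e)
    have e2 : A ≃ B :=
      (Equiv.subtypeSubtypeEquivSubtypeInter _ (fun u : G => key τ u = key τ z)).symm.trans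
        ((Equiv.subtypeEquiv Φ fun u => by rw [hΦ u]).trans
          (Equiv.subtypeSubtypeEquivSubtypeInter _ (fun u : G => key τ u = key τ z)))
    have hs : Function.Bijective i :=
      (Nat.bijective_iff_injective_and_card i).2 ⟨hi, Nat.card_congr e2⟩
    obtain ⟨a, ha⟩ := hs.2 ⟨z, ⟨IsConj.refl z, hzC⟩, rfl⟩
    have hz' : (a : G) = z := congrArg Subtype.val ha
    have := a.2.1.2
    rwa [hz', inv_inv] at this
  rw [hz1, orderOf_one] at hz
  omega

end

end Cfsg.Agent.CoprimeCentral
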