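import Cfsg.Agent.Lib.CoprimeCentral.Basic
import Cfsg.Agent.Lib.Cores.Basic

/-!
# Products of two involutions (owner: helper81)

For involutions `t`, `u` let `ρ = t * u`.

* `invol ρ`: the involution of `⟨ρ⟩`
* `base t u`, `wit t u`: `t * base` is the 2-part of `ρ`, `u = wit * base * wit⁻¹`, `wit` of odd order in `⟨ρ⟩`
* `coreAt x`: `O(C(x))` inside `G`
* `Dec.congr`: modulo `coreAt x` the pair depends only on the coset of `u`
-/

set_option autoImplicit false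
set_option linter.unusedSectionVars false

namespace Cfsg.Agent.CoprimeCentral

universe u

variable {G : Type u} [Group G]

/-- An element of 2-power order. -/
def TwoElt (x : G) : Prop := ∃ k : ℕ, x ^ 2 ^ k = 1

theorem TwoElt.map {H : Type*} [Group H] {x : G} (h : TwoElt x) (f : G →* H) : TwoElt (f x) := by
  obtain ⟨k, hk⟩ := h
  exact ⟨k, by rw [← map_pow, hk, map_one]⟩

theorem eq_of_twoElt [Finite G] {p q a b : G} (hp : TwoElt p) (hq : TwoElt q)
    (ha : Odd (orderOf a)) (hb : Odd (orderOf b)) (hpa : Commute p a) (hqb : Commute q b)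
    (e : p * a = q * b) : p = q := by
  obtain ⟨k, hk⟩ := hp
  obtain ⟨l, hl⟩ := hq
  have hco : (2 ^ (k + l)).Coprime (orderOf a * orderOf b) :=
    (Nat.coprime_two_left.2 (ha.mul hb)).pow_left _
  obtain ⟨E, hE1, hE0⟩ := Nat.chineseRemainder hco 1 0
  have key : ∀ (r c : G) (j : ℕ), r ^ 2 ^ j = 1 → j ≤ k + l → orderOf c ∣ orderOf a * orderOf b →
      Commute r c → (r * c) ^ E = r := by
    intro r c j hr hj hc hrc
    rw [hrc.mul_pow]
    have h1 : r ^ E = r ^ 1 := pow_eq_pow_iff_modEq.2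
      (hE1.of_dvd ((orderOf_dvd_of_pow_eq_one hr).trans (pow_dvd_pow 2 hj)))
    have h2 : c ^ E = c ^ 0 := pow_eq_pow_iff_modEq.2 (hE0.of_dvd hc)
    rw [h1, h2, pow_zero, mul_one, pow_one]
  rw [← key p a k hk (Nat.le_add_right k l) (Dvd.intro _ rfl) hpa, e,
    key q b l hl (Nat.le_add_left l k) (Dvd.intro_left _ rfl) hqb]

theorem exists_two_odd [Finite G] (ρ : G) : ∃ p o : G,
    p ∈ Subgroup.zpowers ρ ∧ o ∈ Subgroup.zpowers ρ ∧ TwoElt p ∧ Odd (orderOf o) ∧ p * o = ρ := by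
  obtain ⟨k, m, hm, hn⟩ := Nat.exists_eq_two_pow_mul_odd (orderOf_pos ρ).ne'
  have hco : (2 ^ k).Coprime m := (Nat.coprime_two_left.2 hm).pow_left _
  obtain ⟨E, hE1, hE0⟩ := Nat.chineseRemainder hco 1 0
  obtain ⟨F, hF0, hF1⟩ := Nat.chineseRemainder hco 0 1
  refine ⟨ρ ^ E, ρ ^ F, Subgroup.npow_mem_zpowers ρ E, Subgroup.npow_mem_zpowers ρ F, ⟨k, ?_⟩, ?_, ?_⟩
  · rw [← pow_mul, ← orderOf_dvd_iff_pow_eq_one, hn, mul_comm]
    exact Nat.mul_dvd_mul (Nat.modEq_zero_iff_dvd.1 hE0) dvd_rfl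
  · refine hm.of_dvd_nat (orderOf_dvd_of_pow_eq_one ?_)
    rw [← pow_mul, ← orderOf_dvd_iff_pow_eq_one, hn]
    exact Nat.mul_dvd_mul (Nat.modEq_zero_iff_dvd.1 hF0) dvd_rfl
  · rw [← pow_add]
    nth_rw 2 [← pow_one ρ]
    rw [pow_eq_pow_iff_modEq, hn]
    exact (Nat.modEq_and_modEq_iff_modEq_mul hco).1
      ⟨hE1.add hF0, hE0.add hF1⟩

theorem inverts_zpowers {t u w : G} (ht : t * t = 1) (hu : u * u = 1)
    (hw : w ∈ Subgroup.zpowers (t * u)) : t * w * t = w⁻¹ ∧ u * w * u = w⁻¹ := by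
  obtain ⟨n, rfl⟩ := Subgroup.mem_zpowers_iff.1 hw
  have ti : t⁻¹ = t := inv_eq_of_mul_eq_one_right ht
  have ui : u⁻¹ = u := inv_eq_of_mul_eq_one_right hu
  constructor
  · calc t * (t * u) ^ n * t = (t * (t * u) * t⁻¹) ^ n := by rw [conj_zpow, ti]
      _ = ((t * u)⁻¹) ^ n := by
        congr 1
        rw [mul_inv_rev, ti, ui, ← mul_assoc, ht, one_mul]
      _ = _ := inv_zpow _ n
  · calc u * (t * u) ^ n * u = (u * (t * u) * u⁻¹) ^ n := by rw [conj_zpow, ui]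
      _ = ((t * u)⁻¹) ^ n := by
        congr 1
        rw [mul_inv_rev, ti, ui, mul_assoc, mul_assoc, hu, mul_one]
      _ = _ := inv_zpow _ n

/-- The involution of a cyclic group of even order. -/
noncomputable def invol (ρ : G) : G := ρ ^ (orderOf ρ / 2)

theorem invol_mem (ρ : G) : invol ρ ∈ Subgroup.zpowers ρ := Subgroup.npow_mem_zpowers ρ _

theorem orderOf_invol [Finite G] {ρ : G} (h : Even (orderOf ρ)) : orderOf (invol ρ) = 2 := by
  obtain ⟨k, hk⟩ := h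
  have hp := orderOf_pos ρ
  refine orderOf_eq_prime ?_ ?_
  · rw [invol, ← pow_mul, show orderOf ρ / 2 * 2 = orderOf ρ by omega, pow_orderOf_eq_one]
  · exact pow_ne_one_of_lt_orderOf (by omega) (by omega)

theorem invol_unique [Finite G] {ρ y : G} (hy : y ∈ Subgroup.zpowers ρ) (h2 : orderOf y = 2) :
    y = invol ρ := by
  obtain ⟨k, hk, rfl⟩ : ∃ k < orderOf ρ, ρ ^ k = y := by
    obtain ⟨k, rfl⟩ := mem_powers_iff_mem_zpowers.2 hy
    exact ⟨k % orderOf ρ, Nat.mod_lt _ (orderOf_pos ρ), pow_mod_orderOf ρ k⟩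
  have h1 : (ρ ^ k) ^ 2 = 1 := by rw [← h2, pow_orderOf_eq_one]
  rw [← pow_mul] at h1
  obtain ⟨c, hc⟩ := orderOf_dvd_of_pow_eq_one h1
  have h3 : k ≠ 0 := fun e => by simp [e] at h2
  have hc1 : c = 1 := by
    rcases c with _ | _ | c
    · omega
    · rfl
    · nlinarith
  rw [invol]
  subst hc1
  congr 1
  omega

theorem even_of_mem [Finite G] {ρ y : G} (hy : y ∈ Subgroup.zpowers ρ) (h2 : orderOf y = 2) :
    Even (orderOf ρ) :=
  even_iff_two_dvd.2 (h2 ▸ orderOf_dvd_of_mem_zpowers hy)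

theorem commute_of_zpowers {r x y : G} (hx : x ∈ Subgroup.zpowers r) (hy : y ∈ Subgroup.zpowers r) :
    Commute x y := by
  obtain ⟨i, rfl⟩ := Subgroup.mem_zpowers_iff.1 hx
  obtain ⟨j, rfl⟩ := Subgroup.mem_zpowers_iff.1 hy
  exact Commute.zpow_zpow_self r i j

/-- The decomposition of `u` relative to `t`. -/
structure Dec (t u b w : G) : Prop where
  sq : b * b = 1
  two : TwoElt (t * b)
  mem : t * b ∈ Subgroup.zpowers (t * u)
  wmem : w ∈ Subgroup.zpowers (t * u)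
  odd : Odd (orderOf w)
  eq : u = w * b * w⁻¹

theorem exists_dec [Finite G] {t u : G} (ht : t * t = 1) (hu : u * u = 1) : ∃ b w, Dec t u b w := by
  obtain ⟨p, o, hp, ho, h2, hodd, hpo⟩ := exists_two_odd (t * u)
  have hodd' := hodd
  obtain ⟨j, hj⟩ := hodd'
  have hw := (Subgroup.zpowers (t * u)).pow_mem ho j
  have ti : t⁻¹ = t := inv_eq_of_mul_eq_one_right ht
  have htb : t * (t * p) = p := by rw [← mul_assoc, ht, one_mul]
  refine ⟨t * p, o ^ j, ?_, by rwa [htb], by rwa [htb], hw, hodd.of_dvd_nat (orderOf_pow_dvd j), ?_⟩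
  · rw [← mul_assoc, (inverts_zpowers ht hu hp).1, inv_mul_cancel]
  · have h1 := (inverts_zpowers ht hu hw).1
    have h3 : p * (o ^ j)⁻¹ = (o ^ j)⁻¹ * p :=
      (commute_of_zpowers hp ((Subgroup.zpowers (t * u)).inv_mem hw)).eq
    have h4 : o = (o ^ j * o ^ j)⁻¹ := eq_inv_of_mul_eq_one_left
      (by rw [← pow_add, ← pow_succ', ← two_mul, ← hj, pow_orderOf_eq_one])
    symm
    calc o ^ j * (t * p) * (o ^ j)⁻¹ = t * ((t * o ^ j * t) * (p * (o ^ j)⁻¹)) := by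
          simp only [← mul_assoc, ht, one_mul]
      _ = t * (p * (o ^ j * o ^ j)⁻¹) := by
          rw [h1, mul_inv_rev, ← mul_assoc (o ^ j)⁻¹, ← h3, mul_assoc]
      _ = u := by rw [← h4, hpo, ← mul_assoc, ht, one_mul]

variable {t u b w : G}

theorem Dec.u_sq (d : Dec t u b w) : u * u = 1 := by
  rw [d.eq]
  calc w * b * w⁻¹ * (w * b * w⁻¹) = w * (b * b) * w⁻¹ := by group
    _ = 1 := by rw [d.sq, mul_one, mul_inv_cancel]

theorem Dec.inv_t (d : Dec t u b w) (ht : t * t = 1) : t * w * t = w⁻¹ :=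
  (inverts_zpowers ht d.u_sq d.wmem).1

theorem Dec.comm (d : Dec t u b w) : Commute (t * b) w := commute_of_zpowers d.mem d.wmem

theorem Dec.inv_b (d : Dec t u b w) (ht : t * t = 1) : b * w * b = w⁻¹ := by
  have h1 : b = t * (t * b) := by rw [← mul_assoc, ht, one_mul]
  have h2 : (t * b)⁻¹ = b * t := by
    rw [mul_inv_rev, inv_eq_of_mul_eq_one_right ht, inv_eq_of_mul_eq_one_right d.sq]
  calc b * w * b = t * ((t * b) * w * (t * b)⁻¹) * t := by
        rw [h2]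
        simp only [← mul_assoc, ht, one_mul]
        rw [mul_assoc (b * w * b), ht, mul_one]
    _ = t * w * t := by rw [d.comm.eq, mul_inv_cancel_right]
    _ = w⁻¹ := d.inv_t ht

theorem Dec.mul_eq (d : Dec t u b w) (ht : t * t = 1) : t * u = t * b * (w⁻¹ * w⁻¹) := by
  have h1 : t * w = w⁻¹ * t := by
    rw [← d.inv_t ht, mul_assoc (t * w), ht, mul_one]
  rw [d.eq, ← mul_assoc, ← mul_assoc, h1, mul_assoc w⁻¹ t b, ← (d.comm.inv_right).eq, mul_assoc]

theorem Dec.odd_sq (d : Dec t u b w) : Odd (orderOf (w⁻¹ * w⁻¹)) := by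
  refine d.odd.of_dvd_nat ?_
  rw [← pow_two, ← orderOf_inv w]
  exact orderOf_pow_dvd 2

theorem Dec.base_eq [Finite G] (d : Dec t u b w) (ht : t * t = 1) {p a : G} (hp : TwoElt p)
    (ha : Odd (orderOf a)) (hpa : Commute p a) (e : p * a = t * u) : t * b = p :=
  eq_of_twoElt d.two hp d.odd_sq ha (d.comm.inv_right.mul_right d.comm.inv_right) hpa
    ((d.mul_eq ht).symm.trans e.symm)

/-- `O(C(x))` inside `G`. -/
def coreAt (x : G) : Subgroup G :=
  (Cfsg.oddCore ↥(Subgroup.centralizer ({x} : Set G))).map (Subgroup.centralizer ({x} : Set G)).subtype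

theorem coreAt_le (x : G) : coreAt x ≤ Subgroup.centralizer ({x} : Set G) := Subgroup.map_subtype_le _

theorem mem_coreAt {x : G} {y : ↥(Subgroup.centralizer ({x} : Set G))} :
    (y : G) ∈ coreAt x ↔ y ∈ Cfsg.oddCore ↥(Subgroup.centralizer ({x} : Set G)) :=
  ⟨fun ⟨_, hz, e⟩ => Subtype.ext e ▸ hz, fun h => ⟨y, h, rfl⟩⟩

theorem coreAt_conj {x c l : G} (hc : c ∈ Subgroup.centralizer ({x} : Set G)) (hl : l ∈ coreAt x) :
    c * l * c⁻¹ ∈ coreAt x := by
  obtain ⟨y, hy, rfl⟩ := hl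
  exact ⟨_, (Cores.pPrimeCore_normal 2 _).conj_mem y hy ⟨c, hc⟩, rfl⟩

theorem coreAt_odd [Finite G] (x : G) : Odd (Nat.card (coreAt x)) := by
  rw [coreAt, Cores.card_map_subtype]
  exact Nat.coprime_two_right.1 (Cores.coprime_card_pPrimeCore 2)

theorem coreAt_orderOf [Finite G] {x l : G} (hl : l ∈ coreAt x) : Odd (orderOf l) :=
  (coreAt_odd x).of_dvd_nat (Subgroup.orderOf_dvd_natCard _ hl)

theorem coreAt_inv [Finite G] {α : MulAut G} {x : G} (hx : α x = x) : FpfControl.Inv α (coreAt x) := by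
  rintro _ ⟨y, hy, rfl⟩
  refine ⟨FpfControl.restrictAut α (inv_centralizer hx) y, ?_, rfl⟩
  exact (Cores.pPrimeCore_map_mulEquiv (FpfControl.restrictAut α (inv_centralizer hx)) 2).le ⟨y, hy, rfl⟩

/-- A power in `C(x)` of a product with an element of the core. -/
theorem mul_pow_mem {x r l : G} (hr : r ∈ Subgroup.centralizer ({x} : Set G)) (hl : l ∈ coreAt x)
    (k : ℕ) : (r * l) ^ k * (r ^ k)⁻¹ ∈ coreAt x := by
  induction k with
  | zero => simp
  | succ k ih =>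
    have h1 := (coreAt x).mul_mem ih (coreAt_conj (pow_mem hr (k + 1)) hl)
    convert h1 using 1
    rw [pow_succ, pow_succ]
    group

/-- The involution of `⟨t * u⟩` depends only on the coset of `u`. -/
theorem invol_congr [Finite G] {x r l : G} (hx : x ∈ Subgroup.zpowers r) (h2 : orderOf x = 2)
    (hl : l ∈ coreAt x) : x ∈ Subgroup.zpowers (r * l) := by
  have hr : r ∈ Subgroup.centralizer ({x} : Set G) :=
    Subgroup.mem_centralizer_singleton_iff.2 (commute_of_zpowers (Subgroup.mem_zpowers r) hx).eq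
  obtain ⟨k, rfl⟩ := mem_powers_iff_mem_zpowers.2 hx
  set m := (r * l) ^ k * (r ^ k)⁻¹ with hm
  have hmC : Commute m (r ^ k) :=
    Subgroup.mem_centralizer_singleton_iff.1 (coreAt_le _ (mul_pow_mem hr hl k))
  have h1 : ((r * l) ^ k) ^ Nat.card (coreAt (r ^ k)) = r ^ k := by
    rw [show (r * l) ^ k = m * r ^ k by rw [hm, inv_mul_cancel_right], hmC.mul_pow]
    have hm1 : m ^ Nat.card (coreAt (r ^ k)) = 1 :=
      orderOf_dvd_iff_pow_eq_one.1 (Subgroup.orderOf_dvd_natCard _ (mul_pow_mem hr hl k))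
    obtain ⟨j, hj⟩ := coreAt_odd (r ^ k)
    rw [hm1, one_mul, hj, pow_succ, pow_mul, ← h2, pow_orderOf_eq_one, one_pow, one_mul]
  have h3 := Subgroup.npow_mem_zpowers (r * l) (k * Nat.card (coreAt (r ^ k)))
  rwa [pow_mul, h1] at h3

/-- Modulo `coreAt x` the decomposition depends only on the coset of `u`. -/
theorem Dec.congr [Finite G] {u₁ b₁ w₁ x : G} (d : Dec t u b w) (d₁ : Dec t u₁ b₁ w₁)
    (ht : t * t = 1) (hC : Subgroup.zpowers (t * u) ≤ Subgroup.centralizer ({x} : Set G))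
    (hC₁ : Subgroup.zpowers (t * u₁) ≤ Subgroup.centralizer ({x} : Set G))
    (he : u⁻¹ * u₁ ∈ coreAt x) : w⁻¹ * w₁ ∈ coreAt x := by
  set C := Subgroup.centralizer ({x} : Set G) with hCdef
  set π := QuotientGroup.mk' (Cfsg.oddCore ↥C) with hπ
  have hπeq : ∀ y z : C, π y = π z ↔ (y : G)⁻¹ * z ∈ coreAt x := fun y z => by
    rw [hπ, QuotientGroup.mk'_apply, QuotientGroup.mk'_apply, QuotientGroup.eq, ← mem_coreAt]
    rfl
  let p : C := ⟨t * b, hC d.mem⟩
  let p₁ : C := ⟨t * b₁, hC₁ d₁.mem⟩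
  let o : C := ⟨w, hC d.wmem⟩
  let o₁ : C := ⟨w₁, hC₁ d₁.wmem⟩
  have h1 : π (p * (o⁻¹ * o⁻¹)) = π (p₁ * (o₁⁻¹ * o₁⁻¹)) := by
    rw [hπeq]
    show (t * b * (w⁻¹ * w⁻¹))⁻¹ * (t * b₁ * (w₁⁻¹ * w₁⁻¹)) ∈ coreAt x
    rw [← d.mul_eq ht, ← d₁.mul_eq ht, mul_inv_rev, mul_assoc, inv_mul_cancel_left]
    exact he
  have hodd : ∀ (q : C), Odd (orderOf (q : G)) → Odd (orderOf (π q)) := fun q hq => by
    rw [Subgroup.orderOf_coe] at hq
    exact hq.of_dvd_nat (orderOf_map_dvd π q)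
  have htwo : ∀ (q : C), TwoElt (q : G) → TwoElt (π q) := fun q ⟨k, hk⟩ =>
    TwoElt.map ⟨k, Subtype.ext hk⟩ π
  rw [map_mul, map_mul π p₁] at h1
  have hc : ∀ (a c : C), Commute (a : G) c → Commute (π a) (π c) := fun a c h =>
    Commute.map (show Commute a c from Subtype.ext h) π
  have h2 : π p = π p₁ := eq_of_twoElt (htwo p d.two) (htwo p₁ d₁.two) (hodd _ d.odd_sq)
    (hodd _ d₁.odd_sq) (hc p _ (d.comm.inv_right.mul_right d.comm.inv_right))
    (hc p₁ _ (d₁.comm.inv_right.mul_right d₁.comm.inv_right)) h1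
  rw [h2, mul_right_inj, map_mul, map_mul, map_inv, map_inv, ← mul_inv_rev, ← mul_inv_rev, inv_inj,
    ← pow_two, ← pow_two] at h1
  obtain ⟨j, hj⟩ := (hodd o d.odd).mul (hodd o₁ d₁.odd)
  have hpow : ∀ q : ↥C ⧸ Cfsg.oddCore ↥C, orderOf q ∣ 2 * j + 1 → (q ^ 2) ^ (j + 1) = q := fun q hq => by
    rw [← pow_mul, show 2 * (j + 1) = 2 * j + 1 + 1 by omega, pow_succ,
      orderOf_dvd_iff_pow_eq_one.1 hq, one_mul]
  have h3 : π o = π o₁ := by
    rw [← hpow (π o) (hj ▸ Dvd.intro _ rfl), h1, hpow (π o₁) (hj ▸ Dvd.intro_left _ rfl)]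
  exact (hπeq o o₁).1 h3

end Cfsg.Agent.CoprimeCentral
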