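import Cfsg.Agent.Lib.CoprimeCentral.Four
import Cfsg.Agent.Lib.Transfer.IsolatedSylow
import Cfsg.Agent.S1220

/-!
# The end of the argument (owner: helper81)

`Loc.false_of_core`: a setting with `O(G) = 1`, `C ≠ G` and all centralisers of involutions local is
contradictory.
-/

set_option autoImplicit false
set_option linter.style.haveILetI false
set_option linter.unusedSectionVars false

namespace Cfsg.Agent.CoprimeCentral

universe u

variable {G : Type u} [Group G] [Finite G] {α : MulAut G} {τ : G}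

theorem Setup.cent_conj_le (h : Setup α τ) {t : G} (ht : t ∈ Cfsg.fixedSubgroup α)
    (hc : IsConj τ t) : Subgroup.centralizer ({t} : Set G) ≤ Cfsg.fixedSubgroup α := by
  obtain ⟨a, rfl⟩ := isConj_iff.1 hc
  have ha := h.mem_of_conj ht
  intro y hy
  rw [Subgroup.mem_centralizer_singleton_iff] at hy
  have h1 : a⁻¹ * y * a ∈ Cfsg.fixedSubgroup α := by
    refine h.cent (Subgroup.mem_centralizer_singleton_iff.2 ?_)
    calc a⁻¹ * y * a * τ = a⁻¹ * (y * (a * τ * a⁻¹)) * a := by group
      _ = τ * (a⁻¹ * y * a) := by rw [hy]; group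
  have h2 := mul_mem (mul_mem ha h1) (inv_mem ha)
  convert h2 using 1
  group

theorem Setup.of_conj (h : Setup α τ) {t : G} (ht : t ∈ Cfsg.fixedSubgroup α) (hc : IsConj τ t) :
    Setup α t where
  cop := h.cop
  inv := orderOf_of_isConj h.inv hc
  cent := h.cent_conj_le ht hc

theorem invol_self {t : G} (ht : orderOf t = 2) : invol t = t := by
  rw [invol, ht, show 2 / 2 = 1 from rfl, pow_one]

/-- The product of two commuting conjugates of `τ` is one. -/
theorem Loc.mul_conj (h : Loc α τ) {t : G} (ht : IsConj τ t) (hc : Commute τ t) (hne : t ≠ τ) :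
    IsConj τ (τ * t) := by
  by_contra hnc
  have ht2 := sq_of_orderOf (orderOf_of_isConj h.toSetup.inv ht)
  have hv : orderOf (τ * t) = 2 := by
    refine orderOf_eq_prime ?_ ?_
    · rw [hc.mul_pow, pow_two, pow_two, h.toSetup.mul_self, ht2, one_mul]
    · intro e
      exact hne ((eq_inv_of_mul_eq_one_right e).trans h.toSetup.inv_eq)
  have htC := h.toSetup.cent (Subgroup.mem_centralizer_singleton_iff.2 hc.symm.eq)
  refine h.cent_invol_not_le hv (mul_mem h.toSetup.tau_mem htC) hnc ?_
  rw [← mul_assoc, h.toSetup.mul_self, one_mul, invol_self (orderOf_of_isConj h.toSetup.inv ht)]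
  exact h.toSetup.cent_conj_le htC ht

/-- There is a conjugate of `τ` commuting with it, other than itself. -/
theorem Loc.exists_comm_conj (h : Loc α τ) (hO : Cfsg.oddCore G = ⊥) :
    ∃ t, IsConj τ t ∧ Commute τ t ∧ t ≠ τ := by
  by_contra hno
  push Not at hno
  obtain ⟨N, hN, hNodd, hcen⟩ := Transfer.exists_odd_normal_of_isolated (z := τ)
    ⟨h.toSetup.inv, fun g hg => hno _ (isConj_iff.2 ⟨g, rfl⟩) hg⟩
  have hN1 : N = ⊥ := le_bot_iff.1 (hO ▸ Cores.le_pPrimeCore hN (Nat.coprime_two_right.2 hNodd))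
  have h1 : τ = 1 := by
    refine h.core τ fun g => ?_
    have h2 := hcen g
    rw [hN1, Subgroup.mem_bot] at h2
    have h3 : τ * g = g * τ := by
      calc τ * g = τ * g * τ⁻¹ * g⁻¹ * (g * τ) := by group
        _ = g * τ := by rw [h2, one_mul]
    rw [← h3, mul_inv_cancel_right]
    exact h.toSetup.tau_mem
  have := h.toSetup.inv
  rw [h1, orderOf_one] at this
  omega

/-- Some involution of `C` is not conjugate to `τ`. -/
theorem Loc.exists_nonconj (h : Loc α τ) (hO : Cfsg.oddCore G = ⊥)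
    (hne : Cfsg.fixedSubgroup α ≠ ⊤) :
    ∃ z ∈ Cfsg.fixedSubgroup α, orderOf z = 2 ∧ ¬ IsConj τ z := by
  haveI : Fact (Nat.Prime 2) := ⟨Nat.prime_two⟩
  by_contra hall
  push Not at hall
  set C := Cfsg.fixedSubgroup α with hC
  have hse : Cfsg.IsStronglyEmbedded C := by
    refine ⟨hne, even_iff_two_dvd.2 (h.toSetup.inv ▸ Subgroup.orderOf_dvd_natCard C h.toSetup.tau_mem),
      fun g hg => ?_⟩
    rw [← Nat.not_even_iff_odd, even_iff_two_dvd]
    intro h2
    obtain ⟨⟨y, hyC, x, hxC, hxy⟩, hy2⟩ := exists_prime_orderOf_dvd_card' 2 h2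
    rw [← Subgroup.orderOf_coe] at hy2
    change orderOf y = 2 at hy2
    have hxy' : g * x * g⁻¹ = y := hxy
    have hx2 : orderOf x = 2 := by
      rw [← hy2, ← hxy']
      exact ((MulAut.conj g).orderOf_eq x).symm
    obtain ⟨a, ha⟩ := isConj_iff.1 (hall x hxC hx2)
    have ha' := h.toSetup.mem_of_conj (g := a) (by rw [ha]; exact hxC)
    have hga := h.toSetup.mem_of_conj (g := g * a) (by
      rw [show g * a * τ * (g * a)⁻¹ = g * (a * τ * a⁻¹) * g⁻¹ by group, ha, hxy']
      exact hyC)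
    refine hg ?_
    have := mul_mem hga (inv_mem ha')
    rwa [mul_inv_cancel_right] at this
  rcases S1220.result C hse with htr | ⟨-, hsup⟩
  · obtain ⟨g, -, hg⟩ := SetLike.exists_of_lt (lt_top_iff_ne_top.2 hne)
    have hg' : α g ∉ C := fun e => hg (α.injective e)
    obtain ⟨k, hk, hkc⟩ := htr g (α g) hg hg'
    set c := (α g)⁻¹ * (k * g) with hc
    have hαg : α g = k * g * c⁻¹ := by rw [hc]; group
    have hkfix : α k = k := hk
    have hcfix : α c = c := hkc
    have hit : ∀ n : ℕ, (α ^ n) g = k ^ n * g * (c ^ n)⁻¹ := fun n => by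
      induction n with
      | zero => simp
      | succ n ih =>
        rw [pow_succ', MulAut.mul_apply, ih, map_mul, map_mul, map_inv, map_pow, map_pow, hkfix,
          hcfix, hαg, pow_succ k, pow_succ' c]
        group
    have h1 := hit (orderOf α)
    rw [pow_orderOf_eq_one, MulAut.one_apply] at h1
    have h2 : g⁻¹ * k ^ orderOf α * g = c ^ orderOf α := by
      calc g⁻¹ * k ^ orderOf α * g
          = g⁻¹ * (k ^ orderOf α * g * (c ^ orderOf α)⁻¹) * c ^ orderOf α := by group
        _ = c ^ orderOf α := by rw [← h1, inv_mul_cancel, one_mul]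
    obtain ⟨m, hm⟩ := exists_pow_eq_self_of_coprime
      (h.toSetup.cop.coprime_dvd_right (orderOf_dvd_natCard k))
    have h3 : g⁻¹ * k * g ∈ C := by
      have h4 : g⁻¹ * k * g = (g⁻¹ * k ^ orderOf α * g) ^ m := by
        rw [show g⁻¹ * k ^ orderOf α * g = g⁻¹ * k ^ orderOf α * (g⁻¹)⁻¹ by rw [inv_inv],
          conj_pow, hm, inv_inv]
      rw [h4, h2]
      exact pow_mem (pow_mem hkc _) m
    refine hg (h.toSetup.mem_of_div ?_)
    rw [hαg, show g⁻¹ * (k * g * c⁻¹) = g⁻¹ * k * g * c⁻¹ by group]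
    exact mul_mem h3 (inv_mem hkc)
  · rw [hO, bot_sup_eq] at hsup
    exact hne hsup

/-- The final contradiction; `hloc` is the induction hypothesis for centralisers of involutions. -/
theorem Loc.false_of_core (h : Loc α τ) (hO : Cfsg.oddCore G = ⊥) (hne : Cfsg.fixedSubgroup α ≠ ⊤)
    (hloc : ∀ t, Setup α t → ∀ x : G, orderOf x = 2 → Commute t x →
      ∀ y ∈ Subgroup.centralizer ({x} : Set G), y⁻¹ * α y ∈ coreAt x) : False := by
  have hS := h.toSetup
  obtain ⟨z, hzC, hz, hznc⟩ := h.exists_nonconj hO hne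
  obtain ⟨hx2, hτx, hxC, -, -, -⟩ := hS.invol_facts hz hznc (IsConj.refl z)
  set x₀ := invol (τ * z) with hx₀
  have hxnc : ¬ IsConj τ x₀ := fun e => h.cent_invol_not_le hz hzC hznc (hS.cent_conj_le hxC e)
  obtain ⟨t, htc, htcomm, htne⟩ := h.exists_comm_conj hO
  have htC : t ∈ Cfsg.fixedSubgroup α := hS.cent (Subgroup.mem_centralizer_singleton_iff.2 htcomm.symm.eq)
  have hS' := hS.of_conj htC htc
  have ht2 := hS'.mul_self
  have d := dec_spec ht2 (sq_of_orderOf hx2)
  set v := bs t x₀ with hv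
  have hvconj : IsConj v x₀ := isConj_iff.2 ⟨_, d.eq.symm⟩
  have hv2 : orderOf v = 2 := orderOf_of_isConj hx2 hvconj.symm
  have hvC : v ∈ Cfsg.fixedSubgroup α := hS'.bs_mem (sq_of_orderOf hx2)
  have hvnc : ¬ IsConj τ v := fun e => hxnc (e.trans hvconj)
  have hZ : Subgroup.zpowers (t * x₀) ≤ Subgroup.centralizer ({τ} : Set G) := by
    rw [Subgroup.zpowers_le, Subgroup.mem_centralizer_singleton_iff]
    exact (htcomm.symm.mul_left hτx.symm).eq
  have hτv : Commute τ v := by
    have h1 : Commute τ (t * v) := (Subgroup.mem_centralizer_singleton_iff.1 (hZ d.mem)).symm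
    have h2 := htcomm.mul_right h1
    rwa [← mul_assoc, ht2, one_mul] at h2
  have htv : Commute t v := by
    by_contra hnv
    haveI : Fact (Nat.Prime 2) := ⟨Nat.prime_two⟩
    set σ := t * v with hσdef
    have hσ2 : σ ^ 2 ≠ 1 := by
      intro e
      refine hnv ?_
      rw [pow_two] at e
      have h1 := eq_inv_of_mul_eq_one_right e
      rw [hσdef, mul_inv_rev, hS'.inv_eq, inv_eq_of_mul_eq_one_right d.sq] at h1
      exact h1
    obtain ⟨K, hK⟩ := d.two
    obtain ⟨j, -, hj⟩ := (Nat.dvd_prime_pow Nat.prime_two).1 (orderOf_dvd_of_pow_eq_one hK)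
    obtain ⟨i, rfl⟩ : ∃ i, j = i + 2 := by
      rcases j with _ | _ | i
      · exact absurd (orderOf_dvd_iff_pow_eq_one.1 (by rw [hj]; norm_num)) hσ2
      · exact absurd (orderOf_dvd_iff_pow_eq_one.1 (by rw [hj]; norm_num)) hσ2
      · exact ⟨i, rfl⟩
    set s := σ ^ 2 ^ i with hs
    set x := s * s with hxs
    have hxinv : x = invol σ := by
      rw [hxs, hs, ← pow_add, invol, hj, show 2 ^ (i + 2) / 2 = 2 ^ i + 2 ^ i by rw [pow_add]; omega]
    have hev : Even (orderOf σ) := by rw [hj]; exact (Nat.even_pow).2 ⟨even_two, by omega⟩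
    have hxo : orderOf x = 2 := hxinv ▸ orderOf_invol hev
    have hvnc' : ¬ IsConj t v := fun e => hvnc (htc.trans e)
    have hloct : Loc α t := ⟨hS', hloc t hS', h.core⟩
    refine hloct.cent_invol_not_le hv2 hvC hvnc' ?_
    rw [← hσdef, ← hxinv]
    have hsz : s ∈ Subgroup.zpowers (t * v) := Subgroup.npow_mem_zpowers σ _
    have hts : t * s * t = s⁻¹ := (inverts_zpowers ht2 d.sq hsz).1
    have hσC : σ ∈ Cfsg.fixedSubgroup α := mul_mem htC hvC
    have hxC' : x ∈ Cfsg.fixedSubgroup α := mul_mem (pow_mem hσC _) (pow_mem hσC _)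
    have hxi : x⁻¹ = x := inv_eq_of_mul_eq_one_right (sq_of_orderOf hxo)
    have htx : t * x * t = x := by
      rw [(inverts_zpowers ht2 d.sq (Subgroup.mul_mem _ hsz hsz)).1, hxi]
    have hconj : s * t * s⁻¹ = x * t := by
      rw [← hts, hxs]
      simp only [← mul_assoc]
      rw [mul_assoc s t t, ht2, mul_one]
    have hct : Commute t (x * t) := by
      refine Commute.mul_right ?_ (Commute.refl t)
      show t * x = x * t
      conv_rhs => rw [← htx, mul_assoc, ht2, mul_one]
    have hne' : x * t ≠ t := fun e => by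
      rw [mul_eq_right.1 e, orderOf_one] at hxo
      omega
    have hxt : IsConj t x := by
      have h1 := hloct.mul_conj (isConj_iff.2 ⟨s, hconj⟩) hct hne'
      rwa [← mul_assoc, htx] at h1
    exact hS'.cent_conj_le hxC' hxt
  refine h.cent_not_le hv2 hvC hvnc ?_
  have httC : τ * t ∈ Cfsg.fixedSubgroup α := mul_mem hS.tau_mem htC
  exact h.cent_le_of_four hv2 hτv hS.inv hS'.inv (Ne.symm htne) htcomm hτv htv hS.cent hS'.cent
    (hS.cent_conj_le httC (h.mul_conj htc htcomm htne))

end Cfsg.Agent.CoprimeCentral
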