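import Cfsg.Agent.Lib.CoprimeCentral.Count
import Cfsg.Agent.Lib.Coprime.Generation

/-!
# A four group with all centralisers fixed (owner: helper81)

`cent_le_of_four`: if commuting involutions `t`, `t'` centralise `v` and `C(t)`, `C(t')`, `C(t t')` are
fixed pointwise, then `O(C(v))` is fixed pointwise, so `C(v)` is.
-/

set_option autoImplicit false
set_option linter.style.haveILetI false
set_option linter.unusedSectionVars false

namespace Cfsg.Agent.CoprimeCentral

universe u

variable {G : Type u} [Group G] {t t' : G}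

/-- The subgroup `{1, t, t', t * t'}`. -/
def fourSub (ht : t * t = 1) (ht' : t' * t' = 1) (hc : Commute t t') : Subgroup G where
  carrier := {x | x = 1 ∨ x = t ∨ x = t' ∨ x = t * t'}
  one_mem' := Or.inl rfl
  mul_mem' := by
    have h1 : t * (t * t') = t' := by rw [← mul_assoc, ht, one_mul]
    have h2 : t * t' * t = t' := by rw [mul_assoc, ← hc.eq, h1]
    have h3 : t' * (t * t') = t := by rw [← mul_assoc, ← hc.eq, mul_assoc, ht', mul_one]
    have h4 : t * t' * t' = t := by rw [mul_assoc, ht', mul_one]
    have h5 : t * t' * (t * t') = 1 := by rw [← mul_assoc, h2, ht']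
    have h6 : t' * t = t * t' := hc.eq.symm
    rintro a b (rfl | rfl | rfl | rfl) (rfl | rfl | rfl | rfl)
    all_goals simp [ht, ht', h1, h2, h3, h4, h5, h6]
  inv_mem' := by
    have i1 : t⁻¹ = t := inv_eq_of_mul_eq_one_right ht
    have i2 : t'⁻¹ = t' := inv_eq_of_mul_eq_one_right ht'
    rintro a (rfl | rfl | rfl | rfl)
    · exact Or.inl inv_one
    · exact Or.inr (Or.inl i1)
    · exact Or.inr (Or.inr (Or.inl i2))
    · exact Or.inr (Or.inr (Or.inr (by rw [mul_inv_rev, i1, i2, hc.eq])))

variable [Finite G] {α : MulAut G} {τ : G}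

theorem Loc.cent_le_of_four (h : Loc α τ) {v : G} (hv : orderOf v = 2) (hτv : Commute τ v)
    (ht : orderOf t = 2) (ht' : orderOf t' = 2) (hne : t ≠ t') (hc : Commute t t')
    (htv : Commute t v) (htv' : Commute t' v)
    (h1 : Subgroup.centralizer ({t} : Set G) ≤ Cfsg.fixedSubgroup α)
    (h2 : Subgroup.centralizer ({t'} : Set G) ≤ Cfsg.fixedSubgroup α)
    (h3 : Subgroup.centralizer ({t * t'} : Set G) ≤ Cfsg.fixedSubgroup α) :
    Subgroup.centralizer ({v} : Set G) ≤ Cfsg.fixedSubgroup α := by
  haveI : Fact (Nat.Prime 2) := ⟨Nat.prime_two⟩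
  set V := fourSub (sq_of_orderOf ht) (sq_of_orderOf ht') hc with hV
  haveI : IsMulCommutative V := ⟨⟨fun a b => Subtype.ext (by
    show (a : G) * b = b * a
    rcases a.2 with e | e | e | e <;> rcases b.2 with e' | e' | e' | e' <;> rw [e, e'] <;>
      first
        | simp
        | exact hc.eq
        | exact hc.eq.symm
        | exact ((Commute.refl t).mul_right hc).eq
        | exact ((Commute.refl t).mul_right hc).eq.symm
        | exact (hc.symm.mul_right (Commute.refl t')).eq
        | exact (hc.symm.mul_right (Commute.refl t')).eq.symm)⟩⟩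
  have hexp : ∀ a : V, a ^ 2 = 1 := fun a => Subtype.ext (by
    rw [SubgroupClass.coe_pow, pow_two]
    rcases a.2 with e | e | e | e <;> rw [e]
    · exact one_mul 1
    · exact sq_of_orderOf ht
    · exact sq_of_orderOf ht'
    · calc t * t' * (t * t') = t * (t' * t) * t' := by group
        _ = t * t * (t' * t') := by rw [← hc.eq]; group
        _ = 1 := by rw [sq_of_orderOf ht, sq_of_orderOf ht', one_mul])
  have hcyc : ¬ IsCyclic V := by
    rintro ⟨g, hg⟩
    have hg2 : ∀ x : V, x = 1 ∨ x = g := fun x => by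
      obtain ⟨k, hk⟩ := Subgroup.mem_zpowers_iff.1 (hg x)
      rcases Int.even_or_odd' k with ⟨j, rfl | rfl⟩
      · left
        rw [← hk, zpow_mul, zpow_ofNat, hexp, one_zpow]
      · right
        rw [← hk, zpow_add, zpow_mul, zpow_ofNat, hexp, one_zpow, one_mul, zpow_one]
    rcases hg2 ⟨t, Or.inr (Or.inl rfl)⟩ with e | e
    · rw [show t = 1 from congrArg Subtype.val e, orderOf_one] at ht; omega
    rcases hg2 ⟨t', Or.inr (Or.inr (Or.inl rfl))⟩ with e' | e'
    · rw [show t' = 1 from congrArg Subtype.val e', orderOf_one] at ht'; omega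
    exact hne (congrArg Subtype.val (e.trans e'.symm))
  have hcop : (Nat.card V).Coprime (Nat.card (coreAt v)) := by
    have hP : IsPGroup 2 V := fun a => ⟨1, by rw [pow_one, hexp]⟩
    obtain ⟨n, hn⟩ := IsPGroup.iff_card.1 hP
    rw [hn]
    exact (Nat.coprime_two_left.2 (coreAt_odd v)).pow_left n
  have hVC : ∀ a ∈ V, a ∈ Subgroup.centralizer ({v} : Set G) := by
    intro a ha
    rw [Subgroup.mem_centralizer_singleton_iff]
    rcases ha with rfl | rfl | rfl | rfl
    · simp
    · exact htv.eq
    · exact htv'.eq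
    · exact (htv.mul_left htv').eq
  have hVN : V ≤ Subgroup.normalizer (coreAt v : Set G) := fun a ha =>
    Coprime.mem_normalizer_of_forall fun y hy => coreAt_conj (hVC a ha) hy
  have hL : coreAt v ≤ Cfsg.fixedSubgroup α :=
    Coprime.le_of_noncyclic hcyc hVN hcop fun a ha ha1 => by
      refine inf_le_right.trans ?_
      rcases ha with rfl | rfl | rfl | rfl
      · exact absurd rfl ha1
      · exact h1
      · exact h2
      · exact h3
  exact fun y hy => h.toSetup.mem_of_div (hL (h.loc v hv hτv y hy))

end Cfsg.Agent.CoprimeCentral
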