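import Cfsg.Agent.Lib.CoprimeCentral.Final

/-!
# A coprime automorphism fixing an involution centraliser is trivial modulo `O(G)` (owner: helper81)

`main`: under `Setup α τ`, `g⁻¹ * α g ∈ O(G)` for every `g`.
-/

set_option autoImplicit false
set_option linter.style.haveILetI false
set_option linter.unusedSectionVars false

namespace Cfsg.Agent.CoprimeCentral

universe u

variable {G : Type u} [Group G] [Finite G] {α : MulAut G} {τ : G}

theorem card_quotient_lt {N : Subgroup G} [N.Normal] (hN : N ≠ ⊥) : Nat.card (G ⧸ N) < Nat.card G := by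
  rw [Subgroup.card_eq_card_quotient_mul_card_subgroup N]
  exact lt_mul_of_one_lt_right Nat.card_pos (Subgroup.one_lt_card_iff_ne_bot N |>.2 hN)

theorem oddCore_inv : FpfControl.Inv α (Cfsg.oddCore G) :=
  FpfControl.inv_of_map_eq (Cores.pPrimeCore_map_mulEquiv α 2)

/-- The setting passes to a quotient in which commuting with `τ` forces being fixed. -/
theorem Setup.quot (h : Setup α τ) {N : Subgroup G} [N.Normal] (hN : FpfControl.Inv α N) (hτ : τ ∉ N)
    (hcent : ∀ g : G, (τ * g)⁻¹ * (g * τ) ∈ N → g⁻¹ * α g ∈ N) :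
    Setup (FpfControl.quotAut α N hN) (τ : G ⧸ N) where
  cop := by
    refine (h.cop.coprime_dvd_left (orderOf_dvd_of_pow_eq_one (MulEquiv.ext fun x => ?_))).coprime_dvd_right
      N.card_quotient_dvd_card
    obtain ⟨g, rfl⟩ := QuotientGroup.mk_surjective x
    rw [FpfControl.quotAut_pow, pow_orderOf_eq_one]
    rfl
  inv := by
    refine orderOf_eq_prime ?_ ?_
    · rw [pow_two, ← QuotientGroup.mk_mul, h.mul_self, QuotientGroup.mk_one]
    · rwa [Ne, QuotientGroup.eq_one_iff]
  cent := by
    intro x hx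
    obtain ⟨g, rfl⟩ := QuotientGroup.mk_surjective x
    rw [Subgroup.mem_centralizer_singleton_iff, ← QuotientGroup.mk_mul, ← QuotientGroup.mk_mul,
      eq_comm, QuotientGroup.eq] at hx
    show FpfControl.quotAut α N hN (g : G ⧸ N) = (g : G ⧸ N)
    have h1 := FpfControl.quotAut_pow α N hN 1 g
    rw [pow_one, pow_one] at h1
    rw [h1, eq_comm, QuotientGroup.eq]
    exact hcent g hx

theorem Setup.restrict (h : Setup α τ) {H : Subgroup G} (hH : FpfControl.Inv α H) (hτ : τ ∈ H) :
    Setup (FpfControl.restrictAut α hH) (⟨τ, hτ⟩ : H) where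
  cop := by
    refine (h.cop.coprime_dvd_left (orderOf_dvd_of_pow_eq_one (MulEquiv.ext fun x => Subtype.ext ?_))).coprime_dvd_right
      H.card_subgroup_dvd_card
    rw [FpfControl.restrictAut_pow, pow_orderOf_eq_one]
    rfl
  inv := by rw [← Subgroup.orderOf_coe]; exact h.inv
  cent := fun y hy => Subtype.ext (h.cent (Subgroup.mem_centralizer_singleton_iff.2
    (congrArg Subtype.val (Subgroup.mem_centralizer_singleton_iff.1 hy))))

/-- When `O(G) = 1` the fixed subgroup contains no nontrivial normal subgroup unless it is `G`. -/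
theorem Setup.normalCore_eq_bot (h : Setup α τ) (hO : Cfsg.oddCore G = ⊥)
    (hne : Cfsg.fixedSubgroup α ≠ ⊤)
    (IH : ∀ (H : Type u) [Group H] [Finite H], Nat.card H < Nat.card G → ∀ (β : MulAut H) (t : H),
      Setup β t → ∀ g : H, g⁻¹ * β g ∈ Cfsg.oddCore H) :
    (Cfsg.fixedSubgroup α).normalCore = ⊥ := by
  haveI : Fact (Nat.Prime 2) := ⟨Nat.prime_two⟩
  by_contra hN1
  set C := Cfsg.fixedSubgroup α with hC
  set N := C.normalCore with hNdef
  haveI : N.Normal := C.normalCore_normal
  have hNC : N ≤ C := C.normalCore_le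
  have hfix : ∀ n ∈ N, α n = n := fun n hn => hNC hn
  have hτN : τ ∉ N := fun hτ => hne (top_le_iff.1 fun g _ => h.mem_of_conj
    (hNC ((inferInstance : N.Normal).conj_mem τ hτ g)))
  have hinv : FpfControl.Inv α N := fun n hn => by rw [hfix n hn]; exact hn
  have hq := h.quot hinv hτN fun g hg => by
    have h1 : g * τ * g⁻¹ ∈ C := by
      have h2 := mul_mem h.tau_mem (hNC ((inferInstance : N.Normal).conj_mem _ hg g))
      convert h2 using 1
      group
    rw [show α g = g from h.mem_of_conj h1, inv_mul_cancel]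
    exact one_mem _
  have hIH := IH (G ⧸ N) (card_quotient_lt hN1) _ _ hq
  set P := (Cfsg.oddCore (G ⧸ N)).comap (QuotientGroup.mk' N) with hP
  set D := P ⊓ Subgroup.centralizer (N : Set G) with hD
  haveI : D.Normal := Subgroup.normal_inf_normal _ _
  have hDN : D ≤ N := by
    have hT : ∀ x ∈ D, x ∈ N → TwoElt x := by
      intro x hxD hxN
      obtain ⟨p, o, hp, ho, h2, hodd, hpo⟩ := exists_two_odd x
      set A := D ⊓ N with hA
      haveI : A.Normal := Subgroup.normal_inf_normal _ _
      haveI : IsMulCommutative A := ⟨⟨fun a b => Subtype.ext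
        (Subgroup.mem_centralizer_iff.1 b.2.1.2 a a.2.2)⟩⟩
      have hoA : o ∈ A := (Subgroup.zpowers_le.2 (show x ∈ A from ⟨hxD, hxN⟩)) ho
      have h1 : (⟨o, hoA⟩ : A) ∈ Cfsg.oddCore A :=
        (Cores.le_pPrimeCore (N := Subgroup.zpowers (⟨o, hoA⟩ : A)) inferInstance
          (by rw [Nat.card_zpowers, ← Subgroup.orderOf_coe]; exact Nat.coprime_two_right.2 hodd))
          (Subgroup.mem_zpowers _)
      have h3 : o ∈ Cfsg.pPrimeCore 2 G ⊓ A :=
        (Cores.pPrimeCore_map_subtype A 2).le ⟨_, h1, rfl⟩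
      have h4 : o = 1 := Subgroup.mem_bot.1 (hO ▸ h3.1)
      rw [h4, mul_one] at hpo
      rwa [← hpo]
    set T := N.subgroupOf D with hTdef
    have hT2 : IsPGroup 2 T := fun a => by
      obtain ⟨k, hk⟩ := hT _ (a : D).2 a.2
      exact ⟨k, Subtype.ext (Subtype.ext hk)⟩
    let φ : D →* G ⧸ N := (QuotientGroup.mk' N).comp D.subtype
    have hker : φ.ker = T := by
      ext x
      rw [MonoidHom.mem_ker, Subgroup.mem_subgroupOf]
      exact QuotientGroup.eq_one_iff _
    have hidx : T.index ∣ Nat.card (Cfsg.oddCore (G ⧸ N)) := by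
      rw [← hker, Subgroup.index_ker]
      exact Subgroup.card_dvd_of_le (by rintro _ ⟨x, rfl⟩; exact x.2.1)
    haveI : T.Normal := inferInstance
    obtain ⟨n, hn⟩ := IsPGroup.iff_card.1 hT2
    have hco : (Nat.card T).Coprime T.index := by
      rw [hn]
      exact ((Cores.coprime_card_pPrimeCore (G := G ⧸ N) 2).symm.coprime_dvd_right hidx).pow_left n
    obtain ⟨K, hK⟩ := Subgroup.exists_right_complement'_of_coprime hco
    have hKT : ∀ k ∈ K, ∀ a ∈ T, k * a = a * k := fun k _ a ha => Subtype.ext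
      (Subgroup.mem_centralizer_iff.1 k.2.2 _ ha).symm
    haveI : K.Normal := by
      refine Subgroup.normalizer_eq_top_iff.1 (top_le_iff.1 ?_)
      rw [← hK.sup_eq_top]
      refine sup_le (fun a ha => Coprime.mem_normalizer_of_forall fun k hk => ?_) Subgroup.le_normalizer
      rw [← hKT k hk a ha, mul_inv_cancel_right]
      exact hk
    have hKcard : (Nat.card K).Coprime 2 := by
      rw [← hK.symm.index_eq_card]
      exact (Cores.coprime_card_pPrimeCore (G := G ⧸ N) 2).coprime_dvd_left hidx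
    have hK1 : K = ⊥ := by
      have h1 : Cfsg.oddCore D = ⊥ := by
        have h2 := Cores.pPrimeCore_map_subtype D 2
        rw [show Cfsg.pPrimeCore 2 G = ⊥ from hO, bot_inf_eq] at h2
        exact (Subgroup.map_eq_bot_iff_of_injective _ D.subtype_injective).1 h2
      exact le_bot_iff.1 (h1 ▸ Cores.le_pPrimeCore inferInstance hKcard)
    have htop : T = ⊤ := by
      have := hK.sup_eq_top
      rwa [hK1, sup_bot_eq] at this
    exact Subgroup.subgroupOf_eq_top.1 htop
  refine hne (top_le_iff.1 fun g _ => h.mem_of_div (hNC (hDN ⟨?_, ?_⟩)))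
  · show QuotientGroup.mk' N (g⁻¹ * α g) ∈ Cfsg.oddCore (G ⧸ N)
    have h1 := FpfControl.quotAut_pow α N hinv 1 g
    rw [pow_one, pow_one] at h1
    have h2 := hIH (g : G ⧸ N)
    rw [h1] at h2
    exact h2
  · show g⁻¹ * α g ∈ Subgroup.centralizer (N : Set G)
    rw [Subgroup.mem_centralizer_iff]
    intro n hn
    have h1 : α (g * n * g⁻¹) = g * n * g⁻¹ := hfix _ ((inferInstance : N.Normal).conj_mem n hn g)
    rw [map_mul, map_mul, map_inv, hfix n hn] at h1
    calc n * (g⁻¹ * α g) = g⁻¹ * (g * n * g⁻¹) * α g := by group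
      _ = g⁻¹ * (α g * n * (α g)⁻¹) * α g := by rw [h1]
      _ = g⁻¹ * α g * n := by group

/-- The theorem. -/
theorem main (h : Setup α τ) : ∀ g : G, g⁻¹ * α g ∈ Cfsg.oddCore G := by
  induction hn : Nat.card G using Nat.strong_induction_on generalizing G with
  | _ n ih =>
    subst hn
    have IH : ∀ (H : Type u) [Group H] [Finite H], Nat.card H < Nat.card G → ∀ (β : MulAut H) (t : H),
        Setup β t → ∀ g : H, g⁻¹ * β g ∈ Cfsg.oddCore H :=
      fun H _ _ hlt β t ht => ih _ hlt ht rfl
    intro g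
    by_cases hO : Cfsg.oddCore G = ⊥
    · by_cases hne : Cfsg.fixedSubgroup α = ⊤
      · rw [show α g = g from (hne ▸ Subgroup.mem_top g : g ∈ Cfsg.fixedSubgroup α), inv_mul_cancel]
        exact one_mem _
      exfalso
      have hNC := h.normalCore_eq_bot hO hne IH
      have hcore : ∀ y : G, (∀ g : G, g * y * g⁻¹ ∈ Cfsg.fixedSubgroup α) → y = 1 := fun y hy => by
        have : y ∈ (Cfsg.fixedSubgroup α).normalCore := hy
        rwa [hNC, Subgroup.mem_bot] at this
      have hloc : ∀ t, Setup α t → ∀ x : G, orderOf x = 2 → Commute t x →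
          ∀ y ∈ Subgroup.centralizer ({x} : Set G), y⁻¹ * α y ∈ coreAt x := by
        intro t ht x hx htx y hy
        have hxC : α x = x := ht.cent (Subgroup.mem_centralizer_singleton_iff.2 htx.symm.eq)
        have hlt : Nat.card ↥(Subgroup.centralizer ({x} : Set G)) < Nat.card G := by
          refine lt_of_le_of_ne (Subgroup.card_le_card_group _) fun e => ?_
          have hall := Subgroup.eq_top_of_card_eq _ e
          have hx1 : x = 1 := hcore x fun g => by
            have : g ∈ Subgroup.centralizer ({x} : Set G) := hall ▸ Subgroup.mem_top g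
            rw [Subgroup.mem_centralizer_singleton_iff.1 this, mul_inv_cancel_right]
            exact hxC
          rw [hx1, orderOf_one] at hx
          omega
        exact ⟨_, IH _ hlt _ _ (ht.restrict (inv_centralizer hxC)
          (Subgroup.mem_centralizer_singleton_iff.2 htx.eq)) ⟨y, hy⟩, rfl⟩
      exact Loc.false_of_core ⟨h, hloc τ h, hcore⟩ hO hne hloc
    · have hOodd : Odd (Nat.card (Cfsg.oddCore G)) :=
        Nat.coprime_two_right.1 (Cores.coprime_card_pPrimeCore 2)
      have hτO : τ ∉ Cfsg.oddCore G := fun hτ => by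
        have := hOodd.of_dvd_nat (h.inv ▸ Subgroup.orderOf_dvd_natCard _ hτ)
        exact absurd this (by decide)
      have hq := h.quot oddCore_inv hτO fun g hg => by
        have hd := (Cores.pPrimeCore_normal 2 G).conj_mem _ hg g
        set d := g * ((τ * g)⁻¹ * (g * τ)) * g⁻¹ with hddef
        have hτd : τ * d = g * τ * g⁻¹ := by rw [hddef]; group
        have h2 : τ * d * (τ * d) = 1 := by
          rw [hτd]
          calc g * τ * g⁻¹ * (g * τ * g⁻¹) = g * (τ * τ) * g⁻¹ := by group
            _ = 1 := by rw [h.mul_self, mul_one, mul_inv_cancel]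
        have h2' : τ * d * τ = d⁻¹ := eq_inv_of_mul_eq_one_left (by rwa [mul_assoc])
        obtain ⟨m, hm, hmd⟩ := exists_conj_mul h.mul_self h2'
          (hOodd.of_dvd_nat (Subgroup.orderOf_dvd_natCard _ hd))
        have hmO : m ∈ Cfsg.oddCore G := (Subgroup.zpowers_le.2 hd) hm
        have hc : m⁻¹ * g ∈ Cfsg.fixedSubgroup α := by
          refine h.cent (Subgroup.mem_centralizer_singleton_iff.2 ?_)
          calc m⁻¹ * g * τ = m⁻¹ * (g * τ * g⁻¹) * g := by group
            _ = τ * (m⁻¹ * g) := by rw [← hτd, ← hmd]; group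
        have hc' : α (m⁻¹ * g) = m⁻¹ * g := hc
        rw [map_mul, map_inv, inv_mul_eq_iff_eq_mul] at hc'
        rw [hc', show g⁻¹ * (α m * (m⁻¹ * g)) = g⁻¹ * (α m * m⁻¹) * g⁻¹⁻¹ by group]
        exact (Cores.pPrimeCore_normal 2 G).conj_mem _ (mul_mem (oddCore_inv m hmO) (inv_mem hmO)) _
      have h1 := IH _ (card_quotient_lt hO) _ _ hq (g : G ⧸ Cfsg.oddCore G)
      have h2 := FpfControl.quotAut_pow α (Cfsg.oddCore G) oddCore_inv 1 g
      rw [pow_one, pow_one] at h2
      rw [h2, show Cfsg.oddCore (G ⧸ Cfsg.oddCore G) = ⊥ from Cores.pPrimeCore_quotient_self 2,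
        Subgroup.mem_bot, ← QuotientGroup.mk_inv, ← QuotientGroup.mk_mul, QuotientGroup.eq_one_iff] at h1
      exact h1

end Cfsg.Agent.CoprimeCentral
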